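import Groth.Prelude.Def_NumR
import Groth.Agent.NumCone.Hyperbolic
import Groth.Agent.SurfInt.Hodge
import Groth.Agent.SurfInt.Curve
import Groth.Agent.ArSurfBase.Deg
import Groth.Agent.VarBase.NakaiCrit
import Groth.Agent.IntNum47.Basic
import Groth.Agent.GrpSchLib.SmoothRegular

/-!
# The intersection form on real divisor classes of a smooth projective surface
-/

set_option autoImplicit false
set_option linter.style.haveILetI false
set_option linter.unusedSectionVars false
set_option backward.isDefEq.respectTransparency false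

universe u

open CategoryTheory CategoryTheory.Limits AlgebraicGeometry TopologicalSpace Opposite

noncomputable section

namespace Groth.Agent.NumSurf32

open Groth.Agent

variable {X : Scheme.{u}} {k : Type u} [Field k] [X.Over (Spec (CommRingCat.of k))]

/-- The classes of invertible modules. -/
def classes (k : Type u) [Field k] (X : Scheme.{u}) [X.Over (Spec (CommRingCat.of k))] [PicGrp.Law X] :
    Set (NumR.N1R k X) :=
  {x | ∃ (L : X.Modules) (hL : PicF.IsInvertible L), x = NumR.clR k X L hL}

theorem dim_le_two {X : Scheme.{u}} (hdim : topologicalKrullDim X = 2) : topologicalKrullDim X ≤ (2 : ℕ) := by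
  rw [hdim]; exact le_rfl

section Classes

variable [PicGrp.Law X]

theorem cls_tensor {L M : X.Modules} (hL : PicF.IsInvertible L) (hM : PicF.IsInvertible M) :
    PicGrp.cls (CohB1.tensorMod L M) (InvX.isInvertible_tensorMod hL hM) = PicGrp.cls L hL * PicGrp.cls M hM :=
  Subtype.ext (PicGrp.cls_mul_cls_val hL hM).symm

theorem clR_tensor {L M : X.Modules} (hL : PicF.IsInvertible L) (hM : PicF.IsInvertible M) :
    NumR.clR k X (CohB1.tensorMod L M) (InvX.isInvertible_tensorMod hL hM) =
      NumR.clR k X L hL + NumR.clR k X M hM := by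
  simp only [NumR.clR, NumR.cl, cls_tensor hL hM, ofMul_mul, map_add]

theorem clR_congr {L M : X.Modules} (e : L ≅ M) (hL : PicF.IsInvertible L) (hM : PicF.IsInvertible M) :
    NumR.clR k X L hL = NumR.clR k X M hM := by
  have h : PicGrp.cls L hL = PicGrp.cls M hM := (PicGrp.cls_eq_cls_iff hL hM).2 ⟨e⟩
  simp only [NumR.clR, NumR.cl, h]

theorem clR_structureModule (h : PicF.IsInvertible (Coh.structureModule X)) :
    NumR.clR k X (Coh.structureModule X) h = 0 := by
  have h1 : PicGrp.cls (Coh.structureModule X) h = 1 := PicGrp.cls_structureModule_eq_one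
  simp only [NumR.clR, NumR.cl, h1, ofMul_one, map_zero]

theorem clR_tensorPow {L : X.Modules} (hL : PicF.IsInvertible L) (n : ℕ) :
    NumR.clR k X (CohB1.tensorPow L n) (InvX.isInvertible_tensorPow hL n) = n • NumR.clR k X L hL := by
  induction n with
  | zero => rw [zero_smul]; exact clR_structureModule _
  | succ n ih =>
    rw [succ_nsmul, ← ih, ← clR_tensor (InvX.isInvertible_tensorPow hL n) hL]
    rfl

theorem exists_clR_neg {L : X.Modules} (hL : PicF.IsInvertible L) :
    ∃ (L' : X.Modules) (hL' : PicF.IsInvertible L'), Nonempty (CohB1.tensorMod L L' ≅ Coh.structureModule X) ∧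
      NumR.clR k X L' hL' = - NumR.clR k X L hL := by
  obtain ⟨L', hL', ⟨e⟩⟩ := H23.PicInv.exists_inverse hL
  refine ⟨L', hL', ⟨e⟩, eq_neg_of_add_eq_zero_right ?_⟩
  rw [← clR_tensor hL hL', clR_congr (k := k) e _ (SurfInt.isInvertible_O X), clR_structureModule]

theorem exists_eq_clR_of_mem_closure {v : NumR.N1R k X} (hv : v ∈ AddSubgroup.closure (classes k X)) :
    ∃ (L : X.Modules) (hL : PicF.IsInvertible L), v = NumR.clR k X L hL := by
  induction hv using AddSubgroup.closure_induction with
  | mem v hv => exact hv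
  | zero => exact ⟨_, SurfInt.isInvertible_O X, (clR_structureModule _).symm⟩
  | add a b _ _ ha hb =>
    obtain ⟨L, hL, rfl⟩ := ha
    obtain ⟨M, hM, rfl⟩ := hb
    exact ⟨_, _, (clR_tensor hL hM).symm⟩
  | neg a _ ha =>
    obtain ⟨L, hL, rfl⟩ := ha
    obtain ⟨L', hL', -, h⟩ := exists_clR_neg (k := k) hL
    exact ⟨L', hL', h.symm⟩

end Classes

section Surface

variable [IsProper (X ↘ Spec (CommRingCat.of k))] [IsIntegral X] [PicGrp.Law X]
  (hdim : topologicalKrullDim X = 2)
  {B : NumR.N1R k X →ₗ[ℝ] NumR.N1R k X →ₗ[ℝ] ℝ} (hB : NumR.IsIntForm₂ k X B)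

include hdim hB in
/-- The form on classes is the intersection pairing. -/
theorem apply_clR {L M : X.Modules} (hL : PicF.IsInvertible L) (hM : PicF.IsInvertible M) :
    B (NumR.clR k X L hL) (NumR.clR k X M hM) = (SurfInt.pair k L M : ℝ) := by
  rw [hB L M hL hM, SurfInt.intNum_eq_pair k (dim_le_two hdim) hL hM]

include hdim in
/-- The degree of a restriction to an integral curve is minus the pairing with the ideal. -/
theorem curveDeg_eq_neg_pair {C : Scheme.{u}} (i : C ⟶ X) [IsClosedImmersion i] [IsIntegral C]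
    (hC : topologicalKrullDim C = 1) {L : X.Modules} (hL : PicF.IsInvertible L) :
    Pic13.curveDeg k (i ≫ (X ↘ Spec (CommRingCat.of k))) ((Scheme.Modules.pullback i).obj L) =
      - SurfInt.pair k (ClSub.idealMod i.ker) L := by
  letI : C.Over (Spec (CommRingCat.of k)) := ⟨i ≫ (X ↘ Spec (CommRingCat.of k))⟩
  haveI : IsProper (C ↘ Spec (CommRingCat.of k)) := inferInstanceAs (IsProper (i ≫ (X ↘ Spec (CommRingCat.of k))))
  haveI := CurveCohLib.isNoetherian_of_proper (k := k) (X := X)
  have hqL : Coh.IsQCoh L := (AmpleVan.isCoh_invertible hL).1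
  obtain ⟨e⟩ := SurfInt.nonempty_quotMod_ker i
  have h1 : SurfInt.curveDeg k i.ker L = Curv2.euler k C ((Scheme.Modules.pullback i).obj L) -
      Curv2.euler k C (Coh.structureModule C) := by
    unfold SurfInt.curveDeg
    rw [SurfInt.euler_congr k e, SurfInt.euler_push k i rfl QCoh.isQCoh_structureModule,
      SurfInt.euler_congr k (SurfInt.tMapL e L), SurfInt.euler_quot_tensor k i rfl hqL]
  rw [SurfInt.pair_ideal_left k _ hL, neg_neg, h1]
  show FGA.eulerCharLE k C ((Scheme.Modules.pullback i).obj L) 1 -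
    FGA.eulerCharLE k C (Coh.structureModule C) 1 = _
  rw [ArSurfBase.eulerCharLE_eq_euler hC.le (QCoh.isQCoh_pullback i hqL),
    ArSurfBase.eulerCharLE_eq_euler hC.le QCoh.isQCoh_structureModule]

variable [Smooth (X ↘ Spec (CommRingCat.of k))]

include k hdim in
theorem isInvertible_idealMod_ker {C : Scheme.{u}} (i : C ⟶ X) [IsClosedImmersion i] [IsIntegral C]
    (hC : topologicalKrullDim C = 1) : PicF.IsInvertible (ClSub.idealMod i.ker) := by
  haveI := CurveCohLib.isNoetherian_of_proper (k := k) (X := X)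
  haveI := SurfInt.isIntegral_ker i
  exact SurfInt.isInvertible_idealMod (SurfInt.isEffCartier_curve k hdim
    (fun x => GrpSchLib.isRegularLocalRing_stalk_of_smooth (X ↘ Spec (CommRingCat.of k)) x) i.ker
    ((SurfInt.dim_support_ker i).trans hC))

include hdim hB in
theorem symm_classes : ∀ s ∈ classes k X, ∀ t ∈ classes k X, B s t = B t s := by
  rintro _ ⟨L, hL, rfl⟩ _ ⟨M, hM, rfl⟩
  rw [apply_clR hdim hB hL hM, apply_clR hdim hB hM hL, SurfInt.pair_comm]

include hdim hB in
/-- A class orthogonal to all classes vanishes. -/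
theorem eq_zero_of_orthogonal_classes {v : NumR.N1R k X} (hv : v ∈ AddSubgroup.closure (classes k X))
    (h : ∀ s ∈ classes k X, B v s = 0) : v = 0 := by
  obtain ⟨L, hL, rfl⟩ := exists_eq_clR_of_mem_closure hv
  suffices hn : Pic13.IsNumEquivZero k X L by rw [NumR.clR_def, NumR.cl_eq_zero hL hn, map_zero]
  intro C i _ hCi hC
  haveI := hCi
  have hI := isInvertible_idealMod_ker (k := k) hdim i hC
  rw [curveDeg_eq_neg_pair hdim i hC hL, neg_eq_zero]
  have h0 := h _ ⟨_, hI, rfl⟩
  rw [apply_clR hdim hB hL hI, SurfInt.pair_comm] at h0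
  exact_mod_cast h0

variable [Module.Finite ℝ (NumR.N1R k X)]

include hdim hB in
theorem pair_self_pos {H : X.Modules} (hH : CohB1.IsAmple H) : 0 < SurfInt.pair k H H := by
  haveI := CurveCohLib.isNoetherian_of_proper (k := k) (X := X)
  have hds : topologicalKrullDim ↥(CohB1.support (Coh.structureModule X)) = ((2 : ℕ) : WithBot ℕ∞) := by
    rw [VanGrowth.support_structureModule, VanGrowth.dim_univ, hdim]; rfl
  have h := (HilbPoly.mult_nonneg_and_pos k hH 2 _ QCoh.isCoh_structureModule' hds.le).2 hds
  have h2 := IntNum47.intNum_eq k (dim_le_two hdim) (M := ![H, H]) (by simp [hH.1])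
    (QCoh.isCoh_structureModule' (X := X))
  rw [SurfInt.intNum_eq_pair k (dim_le_two hdim) hH.1 hH.1] at h2
  rw [h2]
  simpa [HilbPoly.mult, HilbPoly.lead, List.ofFn_succ, List.replicate_succ] using h

include hdim hB in
/-- The intersection form has signature `(1, ρ - 1)`. -/
theorem hyp {H : X.Modules} (hH : CohB1.IsAmple H) : NumCone.Hyp B (NumR.clR k X H hH.1) := by
  refine NumCone.Hyp.of_lattice (classes k X) NumR.span_clR ?_ (symm_classes hdim hB)
    (fun v hv h => eq_zero_of_orthogonal_classes hdim hB hv h)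
    (AddSubgroup.subset_closure ⟨H, hH.1, rfl⟩) ?_ ?_
  · rintro _ ⟨L, hL, rfl⟩ _ ⟨M, hM, rfl⟩
    exact ⟨_, apply_clR hdim hB hL hM⟩
  · rw [apply_clR hdim hB hH.1 hH.1]
    exact_mod_cast pair_self_pos (k := k) hdim hB hH
  · intro v hv hvh
    obtain ⟨L, hL, rfl⟩ := exists_eq_clR_of_mem_closure hv
    rw [apply_clR hdim hB hL hH.1, SurfInt.pair_comm] at hvh
    rw [apply_clR hdim hB hL hL]
    have h := SurfInt.hodge_index k (dim_le_two hdim) hH hH.1 hL (pair_self_pos (k := k) hdim hB hH)
      (by exact_mod_cast hvh)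
    exact_mod_cast h

include hdim hB in
theorem posCone_eq {H : X.Modules} (hH : CohB1.IsAmple H) :
    NumR.posCone k X B H hH.1 = NumCone.cone B (NumR.clR k X H hH.1) := rfl

end Surface

end Groth.Agent.NumSurf32
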