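import Groth.Agent.SurfInt.Inter
import Groth.Agent.SheafHomX.Smul
import Mathlib.CategoryTheory.Abelian.DiagramLemmas.KernelCokernelComp

/-!
# The sequence of a composite divisor

For effective Cartier ideals `Γ`, `E` the quotient of `E` by `Γ · E` is `O_Γ ⊗ E`, giving
`0 → O_Γ ⊗ E → O/(Γ·E) → O/E → 0`.
-/

set_option autoImplicit false
set_option linter.style.haveILetI false
set_option linter.unusedSectionVars false
set_option linter.unusedVariables false
set_option backward.isDefEq.respectTransparency false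

universe u

open CategoryTheory CategoryTheory.Limits AlgebraicGeometry TopologicalSpace Opposite

noncomputable section

namespace Groth.Agent.NumSurf32

open Groth.Agent

variable {X : Scheme.{u}}

/-- Scalar multiplication `O ⊗ M ⟶ M`. -/
def scalBilin (M : X.Modules) : H23.TensorDesc.Bilin (Coh.structureModule X) M M where
  b U r m := (show Γ(X, U) from r) • (show Γ(M, U) from m)
  add_left U r r' m := add_smul _ _ _
  smul_left U c r m := mul_smul _ _ _
  add_right U r m m' := smul_add _ _ _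
  smul_right U c r m := smul_comm _ _ _
  res {U V} h r m := AModX.res_smul h _ m

/-- `O ⊗ M ⟶ M`. -/
def scal (M : X.Modules) : CohB1.tensorMod (Coh.structureModule X) M ⟶ M :=
  H23.TensorDesc.desc (scalBilin M)

theorem scal_tmul (M : X.Modules) (U : X.Opens) (r : Γ(Coh.structureModule X, U)) (m : Γ(M, U)) :
    (scal M).app U (InvX.tmul r m) = (show Γ(X, U) from r) • m :=
  H23.TensorDesc.desc_tmul (scalBilin M) U r m

theorem isIso_scal {M : X.Modules} (hM : PicF.IsInvertible M) : IsIso (scal M) := by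
  choose U hU e he using InvX.exists_frame hM
  let one : ∀ x, Γ(Coh.structureModule X, U x) := fun x => show Γ(Coh.structureModule X, U x) from (1 : Γ(X, U x))
  refine SurfInt.isIso_of_frames (scal M) U hU (fun x => InvX.tmul (one x) (e x))
    (fun x => InvX.isFrame_tmul (InvX.isFrame_one _) (he x)) fun x => ?_
  rw [scal_tmul]
  show InvX.IsFrame ((1 : Γ(X, U x)) • e x)
  rw [one_smul]
  exact he x

theorem isIso_mulMap {I J : X.IdealSheafData} (hI : BlowUp.IsEffCartierIdeal I)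
    (hJ : BlowUp.IsEffCartierIdeal J) : IsIso (SurfInt.mulMap I J) := by
  choose U hU a b ha hb using ModPairLib.exists_chart (ModPairLib.isLocPrincipal_of_isEffCartier hI)
    (ModPairLib.isLocPrincipal_of_isEffCartier hJ)
  choose e he using fun x => OmegaLib.exists_of_mem I (U x) (a x) (ha x ▸ Ideal.mem_span_singleton_self _)
  choose f hf using fun x => OmegaLib.exists_of_mem J (U x) (b x) (hb x ▸ Ideal.mem_span_singleton_self _)
  refine SurfInt.isIso_of_frames (SurfInt.mulMap I J) (fun x => (U x).1) hU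
    (fun x => InvX.tmul (e x) (f x))
    (fun x => InvX.isFrame_tmul (SurfInt.isFrame_of_generator hI (ha x) (he x))
      (SurfInt.isFrame_of_generator hJ (hb x) (hf x)))
    fun x => SurfInt.isFrame_of_generator (ModPairLib.isEffCartier_mul hI hJ) (U := U x) (g := a x * b x) ?_ ?_
  · rw [Scheme.IdealSheafData.ideal_mul, Pi.mul_apply, ha x, hb x, Ideal.span_singleton_mul_span_singleton]
  · rw [SurfInt.idealSect_mulMap_tmul, he, hf]

theorem mul_le_right' (Γ E : X.IdealSheafData) : Γ * E ≤ E := fun U => by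
  rw [Scheme.IdealSheafData.ideal_mul, Pi.mul_apply]
  exact Ideal.mul_le_inf.trans inf_le_right

theorem mulMap_incl (Γ E : X.IdealSheafData) :
    SurfInt.mulMap Γ E ≫ SurfInt.inclMap (mul_le_right' Γ E) =
      (AmpleVan.tw (ClSub.idealMod E)).map (ClSub.idealModι Γ) ≫ scal (ClSub.idealMod E) := by
  refine SheafHomX.tensor_hom_ext fun U a b => ?_
  apply OmegaLib.idealSect_injective E U
  have h1 : ((AmpleVan.tw (ClSub.idealMod E)).map (ClSub.idealModι Γ)).app U
      (QCoh.tmS (ClSub.idealMod Γ) (ClSub.idealMod E) a b) =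
      QCoh.tmS (Coh.structureModule X) (ClSub.idealMod E) ((ClSub.idealModι Γ).app U a) b :=
    KFlatLib.tmSh_naturality_left (ClSub.idealModι Γ) (ClSub.idealMod E) (U := U) a b
  change OmegaSh.idealSect E U ((SurfInt.inclMap (mul_le_right' Γ E)).app U
      ((SurfInt.mulMap Γ E).app U (InvX.tmul a b))) =
    OmegaSh.idealSect E U ((scal (ClSub.idealMod E)).app U
      (((AmpleVan.tw (ClSub.idealMod E)).map (ClSub.idealModι Γ)).app U
        (QCoh.tmS (ClSub.idealMod Γ) (ClSub.idealMod E) a b)))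
  rw [h1, SurfInt.idealSect_inclMap, SurfInt.idealSect_mulMap_tmul]
  change _ = OmegaSh.idealSect E U ((scal (ClSub.idealMod E)).app U
    (InvX.tmul ((ClSub.idealModι Γ).app U a) b))
  rw [scal_tmul, OmegaLib.idealSect_smul]
  rfl

variable {Γ E : X.IdealSheafData}

/-- The projection `O/I ⟶ O/K`. -/
def qm {I K : X.IdealSheafData} (h : I ≤ K) : ClSub.quotMod I ⟶ ClSub.quotMod K :=
  (SurfInt.idealSeq_shortExact I).gIsCokernel.desc
    (CokernelCofork.ofπ (f := (SurfInt.idealSeq I).f) (ClSub.toSubscheme K) (SurfInt.idealModι_toSubscheme h))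

@[reassoc]
theorem toSub_qm {I K : X.IdealSheafData} (h : I ≤ K) :
    ClSub.toSubscheme I ≫ qm h = ClSub.toSubscheme K :=
  (SurfInt.idealSeq_shortExact I).gIsCokernel.fac _ WalkingParallelPair.one

theorem qm_comp {I J K : X.IdealSheafData} (h : I ≤ J) (h' : J ≤ K) : qm h ≫ qm h' = qm (h.trans h') := by
  haveI : Epi (ClSub.toSubscheme I) := (SurfInt.idealSeq_shortExact I).epi_g
  rw [← cancel_epi (ClSub.toSubscheme I), toSub_qm_assoc, toSub_qm, toSub_qm]

/-- `0 → O_Γ ⊗ E → O/(Γ·E) → O/E → 0`. -/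
theorem exists_compSeq' (hΓ : BlowUp.IsEffCartierIdeal Γ) (hE : BlowUp.IsEffCartierIdeal E) :
    ∃ S : ShortComplex X.Modules, S.ShortExact ∧
      Nonempty (S.X₁ ≅ CohB1.tensorMod (ClSub.quotMod Γ) (ClSub.idealMod E)) ∧
      ∃ (e₂ : S.X₂ ≅ ClSub.quotMod (Γ * E)) (e₃ : S.X₃ ≅ ClSub.quotMod E),
        e₂.inv ≫ S.g ≫ e₃.hom = qm (mul_le_right' Γ E) := by
  have hEi := SurfInt.isInvertible_idealMod hE
  set f := SurfInt.inclMap (mul_le_right' Γ E)
  set g := ClSub.idealModι E
  haveI : Mono g := inferInstanceAs (Mono (kernel.ι _))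
  have hfg : f ≫ g = ClSub.idealModι (Γ * E) := SurfInt.inclMap_ι _
  let T := kernelCokernelCompSequence.snakeInput f g
  have hz : IsZero T.L₀.X₃ := isZero_kernel_of_mono g
  haveI : Mono T.L₃.f := by
    refine T.L₂'_exact.mono_g ?_
    exact hz.eq_zero_of_src _
  haveI : Epi T.L₂.g := by dsimp [T, kernelCokernelCompSequence.snakeInput]; infer_instance
  haveI : Epi T.L₃.g := T.epi_L₃_g
  refine ⟨T.L₃, ⟨T.L₃_exact⟩, ?_, cokernelIsoOfEq hfg ≪≫
      (cokernelIsCokernel _).coconePointUniqueUpToIso (SurfInt.idealSeq_shortExact (Γ * E)).gIsCokernel,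
    (cokernelIsCokernel g).coconePointUniqueUpToIso (SurfInt.idealSeq_shortExact E).gIsCokernel, ?_⟩
  · -- the quotient of `E` by `Γ · E`
    haveI := AmpleVan.isEquivalence_tw hEi
    haveI := isIso_mulMap hΓ hE
    haveI := isIso_scal hEi
    have hc : IsColimit ((CokernelCofork.ofπ (f := (SurfInt.idealSeq Γ).f) (SurfInt.idealSeq Γ).g
        (SurfInt.idealSeq Γ).zero).map (AmpleVan.tw (ClSub.idealMod E))) :=
      CokernelCofork.mapIsColimit _ (SurfInt.idealSeq_shortExact Γ).gIsCokernel _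
    refine ⟨?_ ≪≫ (cokernelIsCokernel ((AmpleVan.tw (ClSub.idealMod E)).map (ClSub.idealModι Γ))).coconePointUniqueUpToIso hc⟩
    exact (cokernel.mapIso ((AmpleVan.tw (ClSub.idealMod E)).map (ClSub.idealModι Γ)) f
      (asIso (SurfInt.mulMap Γ E)) (asIso (scal (ClSub.idealMod E))) (mulMap_incl Γ E).symm).symm
  · have h2 : cokernel.π (f ≫ g) ≫ (cokernelIsoOfEq hfg ≪≫ (cokernelIsCokernel _).coconePointUniqueUpToIso
        (SurfInt.idealSeq_shortExact (Γ * E)).gIsCokernel).hom = ClSub.toSubscheme (Γ * E) := by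
      rw [Iso.trans_hom, π_comp_cokernelIsoOfEq_hom_assoc]
      exact IsColimit.comp_coconePointUniqueUpToIso_hom (cokernelIsCokernel _) _ WalkingParallelPair.one
    have h3 : cokernel.π g ≫ ((cokernelIsCokernel g).coconePointUniqueUpToIso
        (SurfInt.idealSeq_shortExact E).gIsCokernel).hom = ClSub.toSubscheme E :=
      IsColimit.comp_coconePointUniqueUpToIso_hom (cokernelIsCokernel _) _ WalkingParallelPair.one
    rw [Iso.inv_comp_eq, ← cancel_epi (cokernel.π (f ≫ g))]
    refine Eq.trans ?_ ((toSub_qm (mul_le_right' Γ E)).symm.trans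
      ((congrArg (· ≫ qm (mul_le_right' Γ E)) h2.symm).trans (Category.assoc _ _ _)))
    show cokernel.π (f ≫ g) ≫ cokernel.map (f ≫ g) g f (𝟙 _) (Category.comp_id _) ≫ _ = _
    rw [cokernel.π_desc_assoc, Category.id_comp, h3]

/-- `0 → O_Γ ⊗ E → O/(Γ·E) → O/E → 0`. -/
theorem exists_compSeq (hΓ : BlowUp.IsEffCartierIdeal Γ) (hE : BlowUp.IsEffCartierIdeal E) :
    ∃ S : ShortComplex X.Modules, S.ShortExact ∧
      Nonempty (S.X₁ ≅ CohB1.tensorMod (ClSub.quotMod Γ) (ClSub.idealMod E)) ∧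
      Nonempty (S.X₂ ≅ ClSub.quotMod (Γ * E)) ∧ Nonempty (S.X₃ ≅ ClSub.quotMod E) := by
  obtain ⟨S, hS, h₁, e₂, e₃, -⟩ := exists_compSeq' hΓ hE
  exact ⟨S, hS, h₁, ⟨e₂⟩, ⟨e₃⟩⟩

/-- The kernel of the projection `O/(Γ·E) ⟶ O/E`. -/
theorem exists_ker_qm (hΓ : BlowUp.IsEffCartierIdeal Γ) (hE : BlowUp.IsEffCartierIdeal E) :
    ∃ (j : CohB1.tensorMod (ClSub.quotMod Γ) (ClSub.idealMod E) ⟶ ClSub.quotMod (Γ * E))
      (w : j ≫ qm (mul_le_right' Γ E) = 0), (ShortComplex.mk j (qm (mul_le_right' Γ E)) w).ShortExact := by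
  obtain ⟨S, hS, ⟨e₁⟩, e₂, e₃, h⟩ := exists_compSeq' hΓ hE
  refine ⟨e₁.inv ≫ S.f ≫ e₂.hom, by rw [← h]; simp, ShortComplex.shortExact_of_iso ?_ hS⟩
  refine ShortComplex.isoMk e₁ e₂ e₃ (by simp) ?_
  show e₂.hom ≫ qm (mul_le_right' Γ E) = S.g ≫ e₃.hom
  rw [← h, Iso.hom_inv_id_assoc]

end Groth.Agent.NumSurf32
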