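import Groth.Agent.NumSurf32.Effective
import Groth.Agent.SurfInt.Positivity

/-!
# Nef and ample cones of a smooth projective surface
-/

set_option autoImplicit false
set_option linter.style.haveILetI false
set_option linter.unusedSectionVars false
set_option backward.isDefEq.respectTransparency false

universe u

open CategoryTheory CategoryTheory.Limits AlgebraicGeometry TopologicalSpace Opposite
open Groth.Agent.NumCone (Hyp cone)

noncomputable section

namespace Groth.Agent.NumSurf32

open Groth.Agent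

section Linear

variable {V : Type*} [AddCommGroup V] [Module ℝ V] [FiniteDimensional ℝ V] [TopologicalSpace V] [IsModuleTopology ℝ V]

/-- A convex cone whose generators stay inside after small moves in every basis direction is open. -/
theorem isOpen_hull {ι : Type*} [Fintype ι] (b : Module.Basis ι ℝ V) {G : Set V}
    (h : ∀ g ∈ G, ∀ i, ∃ ε : ℝ, 0 < ε ∧ g + ε • b i ∈ ConvexCone.hull ℝ G ∧ g - ε • b i ∈ ConvexCone.hull ℝ G) :
    IsOpen (ConvexCone.hull ℝ G : Set V) := by
  classical
  set K := ConvexCone.hull ℝ G with hK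
  let P : V → Prop := fun a => ∀ i, ∃ ε : ℝ, 0 < ε ∧ a + ε • b i ∈ K ∧ a - ε • b i ∈ K
  have hconv : ∀ (a : V) (i : ι) (t : ℝ), a ∈ K → ∀ ε : ℝ, 0 < ε → a + ε • b i ∈ K → a - ε • b i ∈ K →
      |t| < ε → a + t • b i ∈ K := by
    intro a i t ha ε hε h1 h2 ht
    obtain ⟨hl, hr⟩ := abs_lt.1 ht
    have e : a + t • b i = ((ε + t) / (2 * ε)) • (a + ε • b i) + ((ε - t) / (2 * ε)) • (a - ε • b i) := by
      rw [smul_add, smul_sub, smul_smul, smul_smul]
      have e1 : (ε + t) / (2 * ε) + (ε - t) / (2 * ε) = 1 := by field_simp; ring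
      have e2 : (ε + t) / (2 * ε) * ε - (ε - t) / (2 * ε) * ε = t := by field_simp; ring
      calc a + t • b i = ((ε + t) / (2 * ε) + (ε - t) / (2 * ε)) • a +
            ((ε + t) / (2 * ε) * ε - (ε - t) / (2 * ε) * ε) • b i := by rw [e1, e2, one_smul]
        _ = _ := by rw [add_smul, sub_smul]; abel
    rw [e]
    exact K.add_mem (K.smul_mem (div_pos (by linarith) (by linarith)) h1)
      (K.smul_mem (div_pos (by linarith) (by linarith)) h2)
  have hP : ∀ a ∈ K, P a := by
    intro a ha
    have hsub : K ≤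
        { carrier := {a | a ∈ K ∧ P a}
          smul_mem' := by
            rintro c hc a ⟨ha, hPa⟩
            refine ⟨K.smul_mem hc ha, fun i => ?_⟩
            obtain ⟨ε, hε, h1, h2⟩ := hPa i
            refine ⟨c * ε, mul_pos hc hε, ?_, ?_⟩
            · have := K.smul_mem hc h1
              rwa [smul_add, smul_smul] at this
            · have := K.smul_mem hc h2
              rwa [smul_sub, smul_smul] at this
          add_mem' := by
            rintro a ⟨ha, hPa⟩ a' ⟨ha', hPa'⟩
            refine ⟨K.add_mem ha ha', fun i => ?_⟩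
            obtain ⟨ε, hε, h1, h2⟩ := hPa i
            refine ⟨ε, hε, ?_, ?_⟩
            · have := K.add_mem h1 ha'
              rwa [add_right_comm] at this
            · have := K.add_mem h2 ha'
              rwa [sub_add_eq_add_sub] at this } :=
      ConvexCone.hull_min fun g hg => ⟨ConvexCone.subset_hull hg, h g hg⟩
    exact (hsub ha).2
  rw [isOpen_iff_mem_nhds]
  intro a ha
  choose ε hε h1 h2 using hP a ha
  let N : ℝ := (Fintype.card ι : ℝ) + 1
  have hN : 0 < N := by positivity
  let O : Set V := {w | ∀ i, |b.equivFun (w - a) i| * N < ε i}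
  have hO : IsOpen O := by
    rw [show O = ⋂ i, {w | |b.equivFun (w - a) i| * N < ε i} from Set.ext fun w => by simp [O]]
    refine isOpen_iInter_of_finite fun i => isOpen_lt ?_ continuous_const
    have hc : Continuous fun w : V => b.equivFun (w - a) i := by
      have h1 : Continuous b.equivFun.toLinearMap := IsModuleTopology.continuous_of_linearMap _
      haveI := IsModuleTopology.topologicalAddGroup ℝ V
      exact (continuous_apply i).comp (h1.comp (continuous_id.sub continuous_const))
    exact (hc.abs).mul continuous_const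
  refine Filter.mem_of_superset (hO.mem_nhds fun i => by simp [hε i]) fun w hw => ?_
  set c := b.equivFun (w - a)
  have hsum : ∀ s : Finset ι, N⁻¹ • a + ∑ i ∈ s, (N⁻¹ • (a + (N * c i) • b i)) ∈ K := by
    intro s
    induction s using Finset.induction with
    | empty => rw [Finset.sum_empty, add_zero]; exact K.smul_mem (inv_pos.2 hN) ha
    | insert i s hi ih =>
      rw [Finset.sum_insert hi, add_left_comm]
      refine K.add_mem (K.smul_mem (inv_pos.2 hN) (hconv a i _ ha (ε i) (hε i) (h1 i) (h2 i) ?_)) ih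
      rw [abs_mul, abs_of_pos hN, mul_comm]
      exact hw i
  have e : N⁻¹ • a + ∑ i, (N⁻¹ • (a + (N * c i) • b i)) = w := by
    simp only [smul_add, smul_smul, ← mul_assoc, inv_mul_cancel₀ hN.ne', one_mul, Finset.sum_add_distrib,
      Finset.sum_const, Finset.card_univ, c, b.sum_equivFun]
    rw [← add_assoc, ← Nat.cast_smul_eq_nsmul ℝ, smul_smul, ← add_smul]
    rw [show N⁻¹ + (Fintype.card ι : ℝ) * N⁻¹ = 1 by
      rw [show N⁻¹ + (Fintype.card ι : ℝ) * N⁻¹ = N⁻¹ * N by simp only [N]; ring]
      exact inv_mul_cancel₀ hN.ne', one_smul]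
    abel
  exact e ▸ hsum Finset.univ

end Linear

variable {X : Scheme.{u}}

/-- The ideal of a reduced closed subscheme is the vanishing ideal of its support. -/
theorem eq_vanishingIdeal_support (I : X.IdealSheafData) [IsReduced I.subscheme] :
    I = Scheme.IdealSheafData.vanishingIdeal I.support := by
  rw [Scheme.IdealSheafData.vanishingIdeal_support]
  refine le_antisymm I.le_radical fun W s hs => ?_
  rw [Scheme.IdealSheafData.radical_ideal] at hs
  obtain ⟨n, hn⟩ := hs
  rw [← I.ker_subschemeι_app W, RingHom.mem_ker] at hn ⊢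
  rw [map_pow] at hn
  exact IsReduced.eq_zero _ ⟨n, hn⟩

variable {k : Type u} [Field k] [X.Over (Spec (CommRingCat.of k))] [IsProper (X ↘ Spec (CommRingCat.of k))]
  [IsIntegral X]

include k in
/-- An integral curve lying on another one equals it. -/
theorem eq_of_support_subset {C Γ : X.IdealSheafData} [IsIntegral C.subscheme] [IsIntegral Γ.subscheme]
    (hC : topologicalKrullDim (C.support : Set X) = 1) (hΓ : topologicalKrullDim (Γ.support : Set X) = 1)
    (h : (C.support : Set X) ⊆ Γ.support) : C = Γ := by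
  set f := X ↘ Spec (CommRingCat.of k)
  have hclo : ∀ (I : X.IdealSheafData) [IsIntegral I.subscheme],
      closure ({I.subschemeι (genericPoint ↥I.subscheme)} : Set X) = I.support := fun I _ => by
    rw [← Scheme.IdealSheafData.range_subschemeι]
    exact (QCoh.range_eq_closure I.subschemeι).symm
  set γ := C.subschemeι (genericPoint ↥C.subscheme)
  set δ := Γ.subschemeι (genericPoint ↥Γ.subscheme)
  have hdeg : ∀ (I : X.IdealSheafData) [IsIntegral I.subscheme], topologicalKrullDim (I.support : Set X) = 1 →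
      VarDim.deg f (I.subschemeι (genericPoint ↥I.subscheme)) = 1 := fun I _ hI => by
    have h1 := VarDim.topologicalKrullDim_closure_singleton f (I.subschemeι (genericPoint ↥I.subscheme))
    rw [hclo I, hI] at h1
    exact_mod_cast h1.symm
  have hsp : δ ⤳ γ := specializes_iff_mem_closure.2 ((hclo Γ).symm ▸ h (hclo C ▸ subset_closure rfl))
  have heq : δ = γ := by
    by_contra hne
    have := VarDim.deg_strictMono f (lt_iff_le_not_ge.2 ⟨hsp, fun h' => hne (hsp.antisymm h').eq⟩)
    rw [hdeg C hC, hdeg Γ hΓ] at this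
    exact lt_irrefl _ this
  have hs : C.support = Γ.support := SetLike.ext' ((hclo C).symm.trans ((congrArg (fun z => closure {z}) heq.symm).trans (hclo Γ)))
  rw [eq_vanishingIdeal_support C, eq_vanishingIdeal_support Γ, hs]

variable [Smooth (X ↘ Spec (CommRingCat.of k))] [PicGrp.Law X] [Module.Finite ℝ (NumR.N1R k X)]
  (hdim : topologicalKrullDim X = 2)
  {B : NumR.N1R k X →ₗ[ℝ] NumR.N1R k X →ₗ[ℝ] ℝ} (hB : NumR.IsIntForm₂ k X B)
  {H : X.Modules} (hH : CohB1.IsAmple H)

set_option quotPrecheck false in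
local notation "h" => NumR.clR k X H hH.1

include hdim hB in
theorem apply_symm (x y : NumR.N1R k X) (hH : CohB1.IsAmple H) : B x y = B y x := (hyp hdim hB hH).symm x y

include hdim hB hH in
theorem ample_mem_cone {A : X.Modules} (hA : CohB1.IsAmple A) : NumR.clR k X A hA.1 ∈ cone B h := by
  haveI := CurveCohLib.isNoetherian_of_proper (k := k) (X := X)
  have hAA := pair_self_pos (k := k) hdim hB hA
  refine ⟨by rw [apply_clR hdim hB hA.1 hA.1]; exact_mod_cast hAA, ?_⟩
  rw [apply_clR hdim hB hA.1 hH.1]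
  have hne := SurfInt.pair_ample_ne_zero k (dim_le_two hdim) hH hA.1 hAA
  suffices hp : 0 < SurfInt.pair k A H by exact_mod_cast hp
  rcases lt_or_gt_of_ne hne with hlt | hgt
  · obtain ⟨A', hA', ⟨e⟩⟩ := H23.PicInv.exists_inverse hA.1
    refine absurd ?_ not_false
    refine SurfInt.false_of_opposite_signs k (dim_le_two hdim) hA hH hA.1 hA' e hAA hAA ?_
    rw [SurfInt.pair_inverse_left k (dim_le_two hdim) hA.1 hA' hH.1 e]
    linarith
  · exact hgt

include hdim hB hH in
theorem ampleCone_subset_cone : (NumR.ampleCone k X : Set (NumR.N1R k X)) ⊆ cone B h := by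
  intro x hx
  refine (ConvexCone.hull_min (R := ℝ) (C :=
    { carrier := cone B h
      smul_mem' := fun c hc y hy => NumCone.smul_mem_cone hc hy
      add_mem' := fun y hy z hz => (hyp hdim hB hH).add_mem_cone hy hz }) ?_) hx
  rintro _ ⟨A, hA, hamp, rfl⟩
  exact ample_mem_cone hdim hB hH hamp

include hH in
theorem clR_mem_ampleCone : h ∈ NumR.ampleCone k X := ConvexCone.subset_hull ⟨H, hH.1, hH, rfl⟩

theorem isOpen_ampleCone : IsOpen (NumR.ampleCone k X : Set (NumR.N1R k X)) := by
  haveI := CurveCohLib.isNoetherian_of_proper (k := k) (X := X)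
  haveI : CompactSpace X := QuasiCompact.compactSpace_of_compactSpace (X ↘ Spec (CommRingCat.of k))
  haveI : X.IsSeparated := SurfInt.isSeparated_of_proper k (X := X)
  obtain ⟨S₀, hS₀, hspan₀, hli⟩ := exists_linearIndependent ℝ (classes k X)
  let b : Module.Basis S₀ ℝ (NumR.N1R k X) := Module.Basis.mk hli (by
    rw [Subtype.range_coe_subtype, Set.setOf_mem_eq, hspan₀, classes, NumR.span_clR])
  haveI : Fintype S₀ := FiniteDimensional.fintypeBasisIndex b
  refine isOpen_hull b fun g hg i => ?_
  obtain ⟨A, hA', hA, rfl⟩ := hg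
  obtain ⟨L, hL, hbi⟩ : b i ∈ classes k X := by rw [Module.Basis.mk_apply]; exact hS₀ i.2
  obtain ⟨L', hL', -, hneg⟩ := exists_clR_neg (k := k) hL
  obtain ⟨n, hn, hn'⟩ := AmpleX.eventually_ample_tensor hA hL
  obtain ⟨n', -, hn''⟩ := AmpleX.eventually_ample_tensor hA hL'
  have hmem : ∀ (M : X.Modules) (hM : PicF.IsInvertible M),
      CohB1.IsAmple (CohB1.tensorMod (CohB1.tensorPow A (n + n')) M) →
        NumR.clR k X A hA' + ((n + n' : ℕ) : ℝ)⁻¹ • NumR.clR k X M hM ∈ NumR.ampleCone k X := fun M hM hamp => by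
    have h1 : (n + n') • NumR.clR k X A hA' + NumR.clR k X M hM ∈ NumR.ampleCone k X :=
      ConvexCone.subset_hull ⟨_, hamp.1, hamp, by rw [clR_tensor (InvX.isInvertible_tensorPow hA' _) hM, clR_tensorPow]⟩
    have h2 := (NumR.ampleCone k X).smul_mem (c := ((n + n' : ℕ) : ℝ)⁻¹) (by positivity) h1
    rwa [smul_add, ← Nat.cast_smul_eq_nsmul ℝ, smul_smul, inv_mul_cancel₀ (by positivity), one_smul] at h2
  refine ⟨((n + n' : ℕ) : ℝ)⁻¹, by positivity, ?_, ?_⟩
  · rw [hbi]; exact hmem L hL (hn' _ (Nat.le_add_right n n')).1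
  · rw [hbi, sub_eq_add_neg, ← smul_neg, ← hneg]; exact hmem L' hL' (hn'' _ (Nat.le_add_left n' n)).1

include hdim hB hH in
/-- A nef class pairs nonnegatively with the positive cone. -/
theorem nef_dual {x : NumR.N1R k X} (hx : x ∈ NumR.nefCone₂ k X B) : ∀ y ∈ cone B h, 0 ≤ B x y := by
  intro y hy
  by_contra hneg
  have hO : IsOpen (cone B h ∩ {w | B x w < 0}) :=
    (NumCone.isOpen_cone B h).inter (isOpen_lt (NumCone.continuous_apply_right B x) continuous_const)
  obtain ⟨v, hv, r, hr, hmem, hlt⟩ := NumCone.exists_smul_mem_of_isOpen (S := classes k X) NumR.span_clR hO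
    ⟨y, hy, not_le.1 hneg⟩
  obtain ⟨L, hL, rfl⟩ := exists_eq_clR_of_mem_closure hv
  obtain ⟨h1, h2⟩ := hmem
  simp only [map_smul, LinearMap.smul_apply, smul_eq_mul, apply_clR hdim hB hL hL, apply_clR hdim hB hL hH.1] at h1 h2
  have hLL : 0 < SurfInt.pair k L L := by
    have : (0 : ℝ) < SurfInt.pair k L L := pos_of_mul_pos_right (pos_of_mul_pos_right h1 hr.le) hr.le
    exact_mod_cast this
  have hLH : 0 < SurfInt.pair k L H := by
    have : (0 : ℝ) < SurfInt.pair k L H := pos_of_mul_pos_right h2 hr.le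
    exact_mod_cast this
  obtain ⟨N, hN⟩ := SurfInt.exists_nontrivial_h0 k (dim_le_two hdim) hH hL hLH hLL
  have hLn := InvX.isInvertible_tensorPow hL (N + 1)
  haveI := hN (N + 1) (Nat.le_succ N)
  haveI := CurveCohLib.isNoetherian_of_proper (k := k) (X := X)
  obtain ⟨s, hs⟩ := SurfInt.exists_mono_of_nontrivial_H0 hLn
  haveI := hs
  have hs0 : s ≠ 0 := fun h0 => by
    have h1 : 𝟙 (Coh.structureModule X) = 0 := (cancel_mono s).1 (by simp [h0])
    exact CurveEnd.not_isZero _ 1 one_pos (InvEnd.isFinLocFreeOfRank_one (SurfInt.isInvertible_O X))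
      ((IsZero.iff_id_eq_zero _).2 h1)
  have h3 := nef_apply_section k hdim hB hH hx hLn s hs0
  rw [clR_tensorPow hL, map_nsmul, nsmul_eq_mul] at h3
  have h4 : 0 ≤ B x (NumR.clR k X L hL) := nonneg_of_mul_nonneg_right h3 (by positivity)
  have h5 : B x (r • NumR.clR k X L hL) < 0 := hlt
  rw [map_smul, smul_eq_mul] at h5
  nlinarith

include hdim hB hH in
theorem sq_nonneg_of_nef {x : NumR.N1R k X} (hx : x ∈ NumR.nefCone₂ k X B) : 0 ≤ B x x :=
  (hyp hdim hB hH).sq_nonneg_of_dual (nef_dual hdim hB hH hx)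

include hdim hB hH in
/-- A nef class of positive square is in the positive cone. -/
theorem mem_cone_of_nef {x : NumR.N1R k X} (hx : x ∈ NumR.nefCone₂ k X B) (hxx : 0 < B x x) : x ∈ cone B h := by
  have hy := hyp hdim hB hH
  refine ⟨hxx, lt_of_le_of_ne (nef_dual hdim hB hH hx h hy.self_mem) fun h0 => ?_⟩
  have hx0 := hy.eq_zero_of_orthogonal hy.pos hxx.le (by rw [hy.symm]; exact h0.symm)
  rw [hx0] at hxx
  simp at hxx

include hdim hB hH in
/-- An ample class is positive on every curve. -/
theorem ampleCone_pos_curve {x : NumR.N1R k X} (hx : x ∈ NumR.ampleCone k X) (I : X.IdealSheafData)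
    (hI : topologicalKrullDim (I.support : Set X) = 1) (hIinv : PicF.IsInvertible (ClSub.idealMod I)) :
    0 < B x (NumR.curveCl k X I hIinv) := by
  refine (ConvexCone.hull_min (R := ℝ) (C :=
    { carrier := {x | 0 < B x (NumR.curveCl k X I hIinv)}
      smul_mem' := fun c hc y hy => by
        simp only [Set.mem_setOf_eq, map_smul, LinearMap.smul_apply, smul_eq_mul] at hy ⊢
        exact mul_pos hc hy
      add_mem' := fun y hy z hz => by
        simp only [Set.mem_setOf_eq, map_add, LinearMap.add_apply] at hy hz ⊢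
        exact add_pos hy hz }) ?_) hx
  rintro _ ⟨A, hA, hamp, rfl⟩
  show 0 < B _ _
  rw [NumR.curveCl, map_neg, apply_clR hdim hB hA hIinv, SurfInt.pair_comm, SurfInt.pair_ideal_left k _ hA]
  have hp := (curveDeg_ample k hamp I hI.le).2 hI
  push_cast
  rw [neg_neg]
  exact_mod_cast hp

include hdim hB in
/-- Finitely many curves meet an effective divisor negatively. -/
theorem exists_bad_curves {A : X.Modules} (hA : CohB1.IsAmple A) {L : X.Modules} (hL : PicF.IsInvertible L)
    (s : Coh.structureModule X ⟶ L) (hs : s ≠ 0) :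
    ∃ S : Finset X.IdealSheafData, ∀ C : X.IdealSheafData, IsIntegral C.subscheme →
      topologicalKrullDim (C.support : Set X) = 1 → C ∉ S → ∀ hC : PicF.IsInvertible (ClSub.idealMod C),
        0 ≤ B (NumR.clR k X L hL) (NumR.curveCl k X C hC) := by
  classical
  haveI := CurveCohLib.isNoetherian_of_proper (k := k) (X := X)
  have hD := ThetaPow.isEffCartier_zeroScheme hL s hs
  have hI := SurfInt.isInvertible_idealMod hD
  obtain ⟨e⟩ := ThetaPow.nonempty_idealMod_zeroScheme hL s hs
  have hy := hyp hdim hB hA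
  have hcl : NumR.clR k X L hL = - NumR.clR k X _ hI := by
    refine eq_neg_of_add_eq_zero_right ?_
    rw [← clR_tensor hI hL, clR_congr (k := k) e _ (SurfInt.isInvertible_O X), clR_structureModule]
  obtain ⟨S, hS⟩ := induction_curves k hdim hA (fun D => ∃ S : Finset X.IdealSheafData,
      ∀ C : X.IdealSheafData, IsIntegral C.subscheme → topologicalKrullDim (C.support : Set X) = 1 → C ∉ S →
        SurfInt.curveDeg k C (ClSub.idealMod D) ≤ 0)
    (fun D hDc hDt => ⟨∅, fun C hCi hCd _ => by
      haveI := hCi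
      refine SurfInt.curveDeg_idealMod_nonpos k (SurfInt.isEffCartier_curve k hdim
        (fun x => GrpSchLib.isRegularLocalRing_stalk_of_smooth (X ↘ Spec (CommRingCat.of k)) x) C hCd) hCd hDc ?_
      intro hsub
      obtain ⟨z⟩ : Nonempty C.subscheme := inferInstance
      have hz : C.subschemeι z ∈ (C.support : Set X) := by
        rw [← Scheme.IdealSheafData.range_subschemeι]; exact ⟨z, rfl⟩
      have := hsub hz
      rw [hDt, Scheme.IdealSheafData.support_top] at this
      exact this.elim⟩)
    (fun Γ E hΓi hΓd hΓ hE ⟨S, hS⟩ => ⟨insert Γ S, fun C hCi hCd hCS => by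
      haveI := hCi
      haveI := hΓi
      rw [Finset.mem_insert, not_or] at hCS
      have hC := SurfInt.isEffCartier_curve k hdim
        (fun x => GrpSchLib.isRegularLocalRing_stalk_of_smooth (X ↘ Spec (CommRingCat.of k)) x) C hCd
      obtain ⟨e⟩ := SurfInt.nonempty_idealMod_mul hE hΓ
      rw [SurfInt.curveDeg_congr k C e, SurfInt.curveDeg_tensor k (dim_le_two hdim) hC
        (SurfInt.isInvertible_idealMod hE) (SurfInt.isInvertible_idealMod hΓ)]
      have h1 := hS C hCi hCd hCS.2
      have h2 := SurfInt.curveDeg_idealMod_nonpos k hC hCd hΓ fun hsub =>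
        hCS.1 (eq_of_support_subset (k := k) hCd hΓd hsub)
      omega⟩) hD
  refine ⟨S, fun C hCi hCd hCS hC => ?_⟩
  rw [hcl, NumR.curveCl, map_neg, map_neg, LinearMap.neg_apply, neg_neg, hy.symm, apply_clR hdim hB hC hI,
    SurfInt.pair_ideal_left k C hI]
  have := hS C hCi hCd hCS
  push_cast
  rw [neg_nonneg]
  exact_mod_cast this

include hdim hB hH in
/-- The numerical criterion on lattice classes. -/
theorem isAmple_of_pos {L : X.Modules} (hL : PicF.IsInvertible L) (hLL : 0 < SurfInt.pair k L L)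
    (hLC : ∀ C : X.IdealSheafData, IsIntegral C.subscheme → topologicalKrullDim (C.support : Set X) = 1 →
      ∀ hC : PicF.IsInvertible (ClSub.idealMod C), SurfInt.pair k (ClSub.idealMod C) L < 0) :
    CohB1.IsAmple L := by
  haveI := CurveCohLib.isNoetherian_of_proper (k := k) (X := X)
  have h2 := dim_le_two (X := X) hdim
  have hgrow : ∀ b : ℤ, ∃ N, ∀ n, N ≤ n → b ≤ Curv2.euler k X (CohB1.tensorPow L n) := by
    refine VarBase.growth_of_mult_pos k hL two_pos h2 ?_
    have hh := IntNum47.intNum_eq k h2 (M := ![L, L]) (by simp [hL]) (QCoh.isCoh_structureModule' (X := X))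
    rw [SurfInt.intNum_eq_pair k h2 hL hL] at hh
    rw [hh] at hLL
    simpa [HilbPoly.mult, HilbPoly.lead, List.ofFn_succ, List.replicate_succ] using hLL
  refine VarBase.isAmple_of_growth k hL (fun W j hj hW hr => ?_) hgrow
  haveI := hj
  haveI := hW
  letI : W.Over (Spec (CommRingCat.of k)) := ⟨j ≫ (X ↘ Spec (CommRingCat.of k))⟩
  haveI : IsProper (W ↘ Spec (CommRingCat.of k)) := SurfInt.isProper_over_of_closedImmersion k j rfl
  haveI := CurveCohLib.isNoetherian_of_proper (k := k) (X := W)
  have hlt : topologicalKrullDim W < ((2 : ℕ) : WithBot ℕ∞) := by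
    have h3 := H23.TopDim.dim_lt_of_ssubset (X := ↥X)
      (by rw [hdim]; exact WithBot.coe_injective.ne (a₁ := ((2 : ℕ) : ℕ∞)) (a₂ := ⊤) (ENat.natCast_ne_top 2))
      j.isClosedEmbedding.isClosed_range hr
    rwa [VarBase.dim_range (X := X) j, hdim] at h3
  have hLW := PicClLib.isInvertible_pullback j hL
  obtain ⟨m, hm⟩ : ∃ m : ℕ, topologicalKrullDim W = (m : WithBot ℕ∞) := by
    rw [VarDim.topologicalKrullDim_eq_deg_genericPoint (W ↘ Spec (CommRingCat.of k))]
    exact ⟨_, rfl⟩
  rw [hm, Nat.cast_lt] at hlt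
  interval_cases m
  · exact VarBase.isAmple_of_dim_le_zero k hm.le hLW
  · rw [Nat.cast_one] at hm
    rw [VarBase.isAmple_iff_deg_pos k hm hLW]
    have hI := isInvertible_idealMod_ker (k := k) hdim j hm
    have hp := hLC j.ker (SurfInt.isIntegral_ker j) ((SurfInt.dim_support_ker j).trans hm) hI
    have hd := curveDeg_eq_neg_pair (k := k) hdim j hm hL
    have he : Pic13.curveDeg k (j ≫ (X ↘ Spec (CommRingCat.of k))) ((Scheme.Modules.pullback j).obj L) =
        Curv2.deg k W ((Scheme.Modules.pullback j).obj L) 1 :=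
      ArSurfBase.curveDeg_eq_deg (Y := W) hm.le (AmpleVan.isCoh_invertible hLW).1
    omega

include hdim hB hH in
/-- **The ample cone is cut out by positivity.** -/
theorem mem_ampleCone_of_pos {x : NumR.N1R k X} (hxx : 0 < B x x)
    (hxC : ∀ (I : X.IdealSheafData), IsIntegral I.subscheme → topologicalKrullDim (I.support : Set X) = 1 →
      ∀ hI : PicF.IsInvertible (ClSub.idealMod I), 0 < B x (NumR.curveCl k X I hI)) :
    x ∈ NumR.ampleCone k X := by
  classical
  have hy := hyp hdim hB hH
  have hxnef : x ∈ NumR.nefCone₂ k X B := fun I a b c => (hxC I a b c).le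
  have hxc : x ∈ cone B h := mem_cone_of_nef hdim hB hH hxnef hxx
  have hK := isOpen_ampleCone (k := k) (X := X)
  haveI := IsModuleTopology.topologicalAddGroup ℝ (NumR.N1R k X)
  have hsubc : Continuous fun w : NumR.N1R k X => x - w := continuous_const.sub continuous_id
  have hline : Continuous fun δ : ℝ => x - δ • h := by fun_prop
  -- a point near `x` of the positive cone below `x`
  obtain ⟨δ, hδc, hδ⟩ : ∃ δ : ℝ, x - δ • h ∈ cone B h ∧ 0 < δ := by
    have hev : ∀ᶠ δ in nhdsWithin (0 : ℝ) (Set.Ioi 0), x - δ • h ∈ cone B h :=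
      Filter.Eventually.filter_mono nhdsWithin_le_nhds
        (hline.continuousAt.preimage_mem_nhds ((NumCone.isOpen_cone B h).mem_nhds (by simpa using hxc)))
    exact (hev.and self_mem_nhdsWithin).exists
  have hδK : δ • h ∈ NumR.ampleCone k X := (NumR.ampleCone k X).smul_mem hδ (clR_mem_ampleCone hH)
  obtain ⟨v, hv, r, hr, hmem, hxK⟩ := NumCone.exists_smul_mem_of_isOpen (S := classes k X) NumR.span_clR
    (O := cone B h ∩ {w | x - w ∈ NumR.ampleCone k X})
    ((NumCone.isOpen_cone B h).inter (hK.preimage hsubc)) ⟨_, hδc, by simpa using hδK⟩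
  obtain ⟨L, hL, rfl⟩ := exists_eq_clR_of_mem_closure hv
  obtain ⟨h1, h2⟩ := hmem
  simp only [map_smul, LinearMap.smul_apply, smul_eq_mul, apply_clR hdim hB hL hL, apply_clR hdim hB hL hH.1] at h1 h2
  have hLL : 0 < SurfInt.pair k L L := by
    have : (0 : ℝ) < SurfInt.pair k L L := pos_of_mul_pos_right (pos_of_mul_pos_right h1 hr.le) hr.le
    exact_mod_cast this
  have hLH : 0 < SurfInt.pair k L H := by
    have : (0 : ℝ) < SurfInt.pair k L H := pos_of_mul_pos_right h2 hr.le
    exact_mod_cast this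
  obtain ⟨N, hN⟩ := SurfInt.exists_nontrivial_h0 k (dim_le_two hdim) hH hL hLH hLL
  have hLn := InvX.isInvertible_tensorPow hL (N + 1)
  haveI := hN (N + 1) (Nat.le_succ N)
  haveI := CurveCohLib.isNoetherian_of_proper (k := k) (X := X)
  obtain ⟨s, hs⟩ := SurfInt.exists_mono_of_nontrivial_H0 hLn
  haveI := hs
  have hs0 : s ≠ 0 := fun h0 => by
    have h3 : 𝟙 (Coh.structureModule X) = 0 := (cancel_mono s).1 (by simp [h0])
    exact CurveEnd.not_isZero _ 1 one_pos (InvEnd.isFinLocFreeOfRank_one (SurfInt.isInvertible_O X))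
      ((IsZero.iff_id_eq_zero _).2 h3)
  obtain ⟨S, hS⟩ := exists_bad_curves hdim hB hH hLn s hs0
  let y := r • NumR.clR k X L hL
  let W : Set (NumR.N1R k X) := cone B h ∩ {w | w - y ∈ NumR.ampleCone k X} ∩
    ⋂ C ∈ S, {w | ∀ (_ : IsIntegral (C : X.IdealSheafData).subscheme)
      (_ : topologicalKrullDim ((C : X.IdealSheafData).support : Set X) = 1)
      (hC : PicF.IsInvertible (ClSub.idealMod C)), 0 < B w (NumR.curveCl k X C hC)}
  have hWopen : IsOpen W := by
    refine ((NumCone.isOpen_cone B h).inter (hK.preimage (continuous_id.sub continuous_const))).inter ?_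
    refine isOpen_biInter_finset fun C _ => ?_
    by_cases hp : IsIntegral C.subscheme ∧ topologicalKrullDim (C.support : Set X) = 1 ∧
        PicF.IsInvertible (ClSub.idealMod C)
    · obtain ⟨p1, p2, p3⟩ := hp
      convert isOpen_lt continuous_const (NumCone.continuous_apply_left B (NumR.curveCl k X C p3)) using 1
      ext w
      exact ⟨fun hw => hw p1 p2 p3, fun hw _ _ _ => hw⟩
    · convert isOpen_univ using 1
      exact Set.eq_univ_iff_forall.2 fun w a b c => (hp ⟨a, b, c⟩).elim
  have hxW : x ∈ W := ⟨⟨hxc, hxK⟩, Set.mem_iInter₂.2 fun C _ a b c => hxC C a b c⟩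
  have hWnef : ∀ w ∈ W, w ∈ NumR.nefCone₂ k X B := by
    rintro w ⟨⟨-, hwK⟩, hwS⟩ C hCi hCd hC
    by_cases hCS : C ∈ S
    · exact (Set.mem_iInter₂.1 hwS C hCS hCi hCd hC).le
    · have h3 := hS C hCi hCd hCS hC
      rw [clR_tensorPow hL, map_nsmul, LinearMap.smul_apply, nsmul_eq_mul] at h3
      have h4 : 0 ≤ B (NumR.clR k X L hL) (NumR.curveCl k X C hC) := nonneg_of_mul_nonneg_right h3 (by positivity)
      have h5 := ampleCone_pos_curve hdim hB hH hwK C hCd hC
      simp only [y, map_sub, map_smul, LinearMap.sub_apply, LinearMap.smul_apply, smul_eq_mul] at h5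
      nlinarith
  -- split `x` as a lattice ray of `W` plus an ample class
  obtain ⟨δ', hδ'W, hδ'⟩ : ∃ δ : ℝ, x - δ • h ∈ W ∧ 0 < δ := by
    have hev : ∀ᶠ δ in nhdsWithin (0 : ℝ) (Set.Ioi 0), x - δ • h ∈ W :=
      Filter.Eventually.filter_mono nhdsWithin_le_nhds
        (hline.continuousAt.preimage_mem_nhds (hWopen.mem_nhds (by simpa using hxW)))
    exact (hev.and self_mem_nhdsWithin).exists
  obtain ⟨v, hv, r', hr', hmem', hxK'⟩ := NumCone.exists_smul_mem_of_isOpen (S := classes k X) NumR.span_clR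
    (O := W ∩ {w | x - w ∈ NumR.ampleCone k X}) (hWopen.inter (hK.preimage hsubc))
    ⟨_, hδ'W, by simpa using (NumR.ampleCone k X).smul_mem hδ' (clR_mem_ampleCone hH)⟩
  obtain ⟨M, hM, rfl⟩ := exists_eq_clR_of_mem_closure hv
  obtain ⟨η, hηW, hη⟩ : ∃ η : ℝ, r' • NumR.clR k X M hM - η • h ∈ W ∧ 0 < η := by
    have hc : Continuous fun η : ℝ => r' • NumR.clR k X M hM - η • h :=
      by fun_prop
    have hev : ∀ᶠ η in nhdsWithin (0 : ℝ) (Set.Ioi 0), r' • NumR.clR k X M hM - η • h ∈ W :=
      Filter.Eventually.filter_mono nhdsWithin_le_nhds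
        (hc.continuousAt.preimage_mem_nhds (hWopen.mem_nhds (by simpa using hmem')))
    exact (hev.and self_mem_nhdsWithin).exists
  have hMa : CohB1.IsAmple M := by
    refine isAmple_of_pos hdim hB hH hM ?_ fun C hCi hCd hC => ?_
    · have h3 := hmem'.1.1.1
      simp only [map_smul, LinearMap.smul_apply, smul_eq_mul, apply_clR hdim hB hM hM] at h3
      have : (0 : ℝ) < SurfInt.pair k M M := pos_of_mul_pos_right (pos_of_mul_pos_right h3 hr'.le) hr'.le
      exact_mod_cast this
    · have h3 := hWnef _ hηW C hCi hCd hC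
      have h4 := ampleCone_pos_curve hdim hB hH (clR_mem_ampleCone (k := k) hH) C hCd hC
      simp only [map_sub, map_smul, LinearMap.sub_apply, LinearMap.smul_apply, smul_eq_mul] at h3
      have h5 : 0 < B (NumR.clR k X M hM) (NumR.curveCl k X C hC) := by nlinarith
      rw [NumR.curveCl, map_neg, apply_clR hdim hB hM hC, SurfInt.pair_comm] at h5
      have : (SurfInt.pair k (ClSub.idealMod C) M : ℝ) < 0 := by linarith
      exact_mod_cast this
  have h6 := (NumR.ampleCone k X).add_mem
    ((NumR.ampleCone k X).smul_mem hr' (ConvexCone.subset_hull ⟨M, hM, hMa, rfl⟩)) hxK'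
  rwa [add_sub_cancel] at h6

include hdim hB hH in
theorem ampleCone_iff {x : NumR.N1R k X} :
    x ∈ NumR.ampleCone k X ↔
      (0 < B x x ∧ ∀ (I : X.IdealSheafData), IsIntegral I.subscheme → topologicalKrullDim (I.support : Set X) = 1 →
        ∀ hI : PicF.IsInvertible (ClSub.idealMod I), 0 < B x (NumR.curveCl k X I hI)) :=
  ⟨fun hx => ⟨(ampleCone_subset_cone hdim hB hH hx).1, fun I _ hId hI => ampleCone_pos_curve hdim hB hH hx I hId hI⟩,
    fun hx => mem_ampleCone_of_pos hdim hB hH hx.1 hx.2⟩

include hdim hB hH in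
theorem add_mem_ampleCone {x y : NumR.N1R k X} (hx : x ∈ NumR.nefCone₂ k X B) (hy : y ∈ NumR.ampleCone k X) :
    x + y ∈ NumR.ampleCone k X := by
  have hyc := ampleCone_subset_cone hdim hB hH hy
  refine mem_ampleCone_of_pos hdim hB hH ?_ fun I hIi hId hI => ?_
  · simp only [map_add, LinearMap.add_apply]
    have h1 := sq_nonneg_of_nef hdim hB hH hx
    have h2 := nef_dual hdim hB hH hx y hyc
    have h3 := (hyp hdim hB hH).symm y x
    linarith [hyc.1]
  · simp only [map_add, LinearMap.add_apply]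
    linarith [hx I hIi hId hI, ampleCone_pos_curve hdim hB hH hy I hId hI]

include hdim hB hH in
theorem closure_ampleCone :
    closure (NumR.ampleCone k X : Set (NumR.N1R k X)) = {x | 0 ≤ B x x ∧ x ∈ NumR.nefCone₂ k X B} := by
  refine Set.Subset.antisymm (closure_minimal (fun x hx => ?_) ?_) fun x hx => ?_
  · obtain ⟨h1, h2⟩ := (ampleCone_iff hdim hB hH).1 hx
    exact ⟨h1.le, fun I a b c => (h2 I a b c).le⟩
  · have hc : {x : NumR.N1R k X | 0 ≤ B x x ∧ x ∈ NumR.nefCone₂ k X B} = {x | 0 ≤ B x x} ∩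
        ⋂ (I : X.IdealSheafData) (_ : IsIntegral I.subscheme) (_ : topologicalKrullDim (I.support : Set X) = 1)
          (hI : PicF.IsInvertible (ClSub.idealMod I)), {x | 0 ≤ B x (NumR.curveCl k X I hI)} := by
      ext w
      simp only [Set.mem_inter_iff, Set.mem_iInter, Set.mem_setOf_eq, NumR.nefCone₂]
    rw [hc]
    exact (isClosed_le continuous_const (NumCone.continuous_apply_self B)).inter (isClosed_iInter fun I =>
      isClosed_iInter fun _ => isClosed_iInter fun _ => isClosed_iInter fun hI =>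
        isClosed_le continuous_const (NumCone.continuous_apply_left B _))
  · haveI := IsModuleTopology.topologicalAddGroup ℝ (NumR.N1R k X)
    have hc : Continuous fun t : ℝ => x + t • h := by fun_prop
    refine mem_closure_of_tendsto (f := fun t : ℝ => x + t • h) (b := nhdsWithin (0 : ℝ) (Set.Ioi 0)) ?_ ?_
    · exact tendsto_nhdsWithin_of_tendsto_nhds (by simpa using hc.tendsto 0)
    · filter_upwards [self_mem_nhdsWithin] with t ht
      exact add_mem_ampleCone hdim hB hH hx.2 ((NumR.ampleCone k X).smul_mem ht (clR_mem_ampleCone hH))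

include hdim hB hH in
theorem closure_inter_cone :
    closure (NumR.ampleCone k X : Set (NumR.N1R k X)) ∩ cone B h = {x | 0 < B x x ∧ x ∈ NumR.nefCone₂ k X B} := by
  ext x
  rw [closure_ampleCone hdim hB hH]
  exact ⟨fun hx => ⟨hx.2.1, hx.1.2⟩, fun hx => ⟨⟨hx.1.le, hx.2⟩, mem_cone_of_nef hdim hB hH hx.2 hx.1⟩⟩

end Groth.Agent.NumSurf32
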