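import Groth.Agent.NumSurf32.Quick
import Groth.Agent.SurfInt.Degrees
import Groth.Agent.SurfInt.Nef
import Groth.Agent.CurveBC.Geometry
import Groth.Agent.S14700

/-!
# Connectedness of an effective divisor and `H¹` of its ideal
-/

set_option autoImplicit false
set_option linter.style.haveILetI false
set_option linter.unusedSectionVars false
set_option backward.isDefEq.respectTransparency false

universe u

open CategoryTheory CategoryTheory.Limits AlgebraicGeometry TopologicalSpace Opposite

noncomputable section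

namespace Groth.Agent.NumSurf32

open Groth.Agent
open Groth.Agent.PnCoh.Finite (mapLin deltaLin)

variable {X : Scheme.{u}} (k : Type u) [Field k] [X.Over (Spec (CommRingCat.of k))]
  [IsProper (X ↘ Spec (CommRingCat.of k))] [IsIntegral X]

/-- The ideal of a nonempty effective divisor has no global sections. -/
theorem finrank_h0_idealMod_eq_zero (hdim : topologicalKrullDim X = 2) {A : X.Modules} (hA : CohB1.IsAmple A)
    {D : X.IdealSheafData} (hD : BlowUp.IsEffCartierIdeal D) (hne : D ≠ ⊤) :
    Module.finrank k (Coh.HH X (ClSub.idealMod D) 0) = 0 := by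
  haveI := CurveCohLib.isNoetherian_of_proper (k := k) (X := X)
  by_contra h
  haveI : Nontrivial (Coh.HH X (ClSub.idealMod D) 0) :=
    Module.nontrivial_of_finrank_pos (R := k) (Nat.pos_of_ne_zero h)
  have hI := SurfInt.isInvertible_idealMod hD
  obtain ⟨s, hs⟩ := SurfInt.exists_mono_of_nontrivial_H0 hI
  have hs0 : s ≠ 0 := fun h0 => by
    subst h0
    exact CurveEnd.not_isZero _ 1 one_pos
      (InvEnd.isFinLocFreeOfRank_one InvX.isInvertible_structureModule) (IsZero.of_mono_zero _ (ClSub.idealMod D))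
  have h1 := (SurfInt.pair_nonneg_of_section k (dim_le_two hdim) hI hA.1 s
    (SurfInt.genericPoint_mem_genLocus hI s hs0) fun ξ hξ => by
      haveI := SurfInt.isIntegral_clIdeal ξ
      refine (SurfInt.curveDeg_pos_of_ample k hA ?_).le
      rw [← Scheme.IdealSheafData.range_subschemeι, VarBase.range_clIdeal, hξ]; rfl).1
  rw [SurfInt.pair_ideal_left k D hA.1] at h1
  have := SurfInt.curveDeg_pos_of_ample k hA (SurfInt.dim_support_effCartier k hdim hD hne)
  omega

variable [IsAlgClosed k]

theorem finrank_h0_quotMod_eq_one (hdim : topologicalKrullDim X = 2) {D : X.IdealSheafData}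
    (hD : BlowUp.IsEffCartierIdeal D) (hne : D ≠ ⊤) {A : X.Modules} (hA : CohB1.IsAmple A)
    [Subsingleton (Coh.HH X (ClSub.idealMod D) 1)] :
    Module.finrank k (Coh.HH X (ClSub.quotMod D) 0) = 1 := by
  haveI := CurveCohLib.isNoetherian_of_proper (k := k) (X := X)
  haveI : Module.Finite k (Coh.HH X (SurfInt.idealSeq D).X₁ 0) :=
    CurveCohLib.finite_HH (k := k) (SurfInt.isCoh_idealMod D) 0
  haveI : Module.Finite k (Coh.HH X (SurfInt.idealSeq D).X₂ 0) :=
    CurveCohLib.finite_HH (k := k) QCoh.isCoh_structureModule' 0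
  haveI : Module.Finite k (Coh.HH X (SurfInt.idealSeq D).X₃ 0) :=
    CurveCohLib.finite_HH (k := k) (ParShLib.isCoh_quotMod D) 0
  have hS := SurfInt.idealSeq_shortExact D
  haveI : Subsingleton (Coh.HH X (SurfInt.idealSeq D).X₁ 1) :=
    inferInstanceAs (Subsingleton (Coh.HH X (ClSub.idealMod D) 1))
  have e3 := LinearMap.finrank_range_add_finrank_ker (deltaLin k hS 0)
  have h0 : Module.finrank k (LinearMap.range (deltaLin k hS 0)) = 0 := Module.finrank_zero_of_subsingleton
  rw [h0, CurveCohLib.ker_deltaLin k hS 0, zero_add] at e3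
  have e2 := LinearMap.finrank_range_add_finrank_ker (mapLin k (SurfInt.idealSeq D).g 0)
  have e1 := LinearMap.finrank_range_add_finrank_ker (mapLin k (SurfInt.idealSeq D).f 0)
  have h1 : Module.finrank k (Coh.HH X (SurfInt.idealSeq D).X₁ 0) = 0 := finrank_h0_idealMod_eq_zero k hdim hA hD hne
  have h2 : Module.finrank k (Coh.HH X (SurfInt.idealSeq D).X₂ 0) = 1 :=
    CurveCohLib.Clifford.finrank_h0_structure k
  rw [CurveCohLib.ker_mapLin_g k hS 0] at e2
  show Module.finrank k (Coh.HH X (SurfInt.idealSeq D).X₃ 0) = 1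
  omega

include k in
theorem subsingleton_h1_idealMod (hdim : topologicalKrullDim X = 2) {D : X.IdealSheafData}
    (hD : BlowUp.IsEffCartierIdeal D) (hne : D ≠ ⊤) {A : X.Modules} (hA : CohB1.IsAmple A)
    [Subsingleton (Coh.HH X (Coh.structureModule X) 1)] [IsReduced D.subscheme]
    (hc : _root_.IsConnected (D.support : Set X)) :
    Subsingleton (Coh.HH X (ClSub.idealMod D) 1) := by
  haveI := CurveCohLib.isNoetherian_of_proper (k := k) (X := X)
  haveI : Module.Finite k (Coh.HH X (SurfInt.idealSeq D).X₁ 0) :=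
    CurveCohLib.finite_HH (k := k) (SurfInt.isCoh_idealMod D) 0
  haveI : Module.Finite k (Coh.HH X (SurfInt.idealSeq D).X₂ 0) :=
    CurveCohLib.finite_HH (k := k) QCoh.isCoh_structureModule' 0
  haveI : Module.Finite k (Coh.HH X (SurfInt.idealSeq D).X₁ (0 + 1)) :=
    CurveCohLib.finite_HH (k := k) (SurfInt.isCoh_idealMod D) 1
  haveI : Module.Finite k (Coh.HH X (SurfInt.idealSeq D).X₃ 0) :=
    CurveCohLib.finite_HH (k := k) (ParShLib.isCoh_quotMod D) 0
  haveI : Subsingleton (Coh.HH X (SurfInt.idealSeq D).X₂ (0 + 1)) :=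
    inferInstanceAs (Subsingleton (Coh.HH X (Coh.structureModule X) 1))
  haveI : Module.Finite k (Coh.HH X (ClSub.idealMod D) 1) := CurveCohLib.finite_HH (k := k) (SurfInt.isCoh_idealMod D) 1
  have hS := SurfInt.idealSeq_shortExact D
  have e3 := LinearMap.finrank_range_add_finrank_ker (deltaLin k hS 0)
  have e4 := LinearMap.finrank_range_add_finrank_ker (mapLin k (SurfInt.idealSeq D).f (0 + 1))
  have h4 : Module.finrank k (LinearMap.range (mapLin k (SurfInt.idealSeq D).f (0 + 1))) = 0 :=
    Module.finrank_zero_of_subsingleton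
  rw [h4, CurveCohLib.ker_mapLin_f_succ k hS 0, zero_add] at e4
  rw [CurveCohLib.ker_deltaLin k hS 0] at e3
  have e2 := LinearMap.finrank_range_add_finrank_ker (mapLin k (SurfInt.idealSeq D).g 0)
  have e1 := LinearMap.finrank_range_add_finrank_ker (mapLin k (SurfInt.idealSeq D).f 0)
  rw [CurveCohLib.ker_mapLin_g k hS 0] at e2
  have h1 : Module.finrank k (Coh.HH X (SurfInt.idealSeq D).X₁ 0) = 0 := finrank_h0_idealMod_eq_zero k hdim hA hD hne
  have h2 : Module.finrank k (Coh.HH X (SurfInt.idealSeq D).X₂ 0) = 1 :=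
    CurveCohLib.Clifford.finrank_h0_structure k
  have h3 : Module.finrank k (Coh.HH X (SurfInt.idealSeq D).X₃ 0) = 1 := S14700.finrank_h0_quotMod k D hc
  exact Module.finrank_zero_iff.1 (show Module.finrank k (Coh.HH X (SurfInt.idealSeq D).X₁ (0 + 1)) = 0 by omega)

end Groth.Agent.NumSurf32
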