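import Groth.Agent.NumSurf32.Effective
import Groth.Agent.SurfInt.Degrees
import Groth.Agent.CurveCohLib.Clifford
import Groth.Agent.H75.GGMul
import Groth.Agent.AmpleVan.Pull
import Groth.Agent.ArSurfBase.Deg

/-!
# Hyperplane sections of a projective surface
-/

set_option autoImplicit false
set_option linter.style.haveILetI false
set_option linter.unusedSectionVars false
set_option backward.isDefEq.respectTransparency false

universe u

open CategoryTheory CategoryTheory.Limits AlgebraicGeometry TopologicalSpace Opposite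

noncomputable section

namespace Groth.Agent.NumSurf32

open Groth.Agent

variable {X : Scheme.{u}} (k : Type u) [Field k] [X.Over (Spec (CommRingCat.of k))]

/-- The hyperplane class is ample. -/
theorem isAmple_hyperplane {n : ℕ} (ι : X ⟶ CohB1.ProjSpace n k) [IsClosedImmersion ι]
    [IsProper (X ↘ Spec (CommRingCat.of k))] :
    CohB1.IsAmple ((Scheme.Modules.pullback ι).obj (Twist.twistProjSpace n k 1)) := by
  haveI : CompactSpace X := QuasiCompact.compactSpace_of_compactSpace (X ↘ Spec (CommRingCat.of k))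
  exact AmpleVan.isAmple_pullback_of_isEmbedding ι ι.isClosedEmbedding.isEmbedding H75.GGMul.isAmple_one

variable [IsProper (X ↘ Spec (CommRingCat.of k))] [IsIntegral X]

omit [X.Over (Spec (CommRingCat.of k))] [IsProper (X ↘ Spec (CommRingCat.of k))] in
theorem nonempty_idealMod_top (h : BlowUp.IsEffCartierIdeal (⊤ : X.IdealSheafData)) :
    Nonempty (ClSub.idealMod (⊤ : X.IdealSheafData) ≅ Coh.structureModule X) := by
  have hI := SurfInt.isInvertible_idealMod h
  obtain ⟨I', hI', ⟨e'⟩⟩ := H23.PicInv.exists_inverse hI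
  obtain ⟨e⟩ := SurfInt.nonempty_idealMod_mul h h
  have e2 : ClSub.idealMod (⊤ : X.IdealSheafData) ≅
      CohB1.tensorMod (ClSub.idealMod ⊤) (ClSub.idealMod ⊤) :=
    eqToIso (congrArg ClSub.idealMod (show (⊤ : X.IdealSheafData) = ⊤ * ⊤ by simp)) ≪≫ e
  exact ⟨(e'.symm ≪≫ SurfInt.tMapL e2 I' ≪≫ SurfInt.tAssoc _ _ _ ≪≫
    SurfInt.tMapR _ e' ≪≫ SurfInt.tUnit _).symm⟩

variable [IsAlgClosed k]

/-- A module with two independent sections meets an ample module positively. -/
theorem pair_pos_of_one_lt_h0 (hdim : topologicalKrullDim X = 2) {A L : X.Modules}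
    (hA : CohB1.IsAmple A) (hL : PicF.IsInvertible L) (hsec : 1 < Module.finrank k (Coh.HH X L 0)) :
    0 < SurfInt.pair k L A := by
  haveI : Nontrivial (Coh.HH X L 0) := Module.nontrivial_of_finrank_pos (R := k) (by omega)
  obtain ⟨s, hs⟩ := SurfInt.exists_mono_of_nontrivial_H0 hL
  have hs0 : s ≠ 0 := fun h0 => by
    subst h0
    exact CurveEnd.not_isZero _ 1 one_pos
      (InvEnd.isFinLocFreeOfRank_one InvX.isInvertible_structureModule) (IsZero.of_mono_zero _ L)
  have hD := ThetaPow.isEffCartier_zeroScheme hL s hs0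
  have hI := SurfInt.isInvertible_idealMod hD
  obtain ⟨e⟩ := ThetaPow.nonempty_idealMod_zeroScheme hL s hs0
  have hne : PicF2.zeroScheme L s ≠ ⊤ := fun h => by
    obtain ⟨e1⟩ := nonempty_idealMod_top (X := X) (h ▸ hD)
    have e2 : L ≅ Coh.structureModule X :=
      (SurfInt.tUnitL L).symm ≪≫ SurfInt.tMapL e1.symm L ≪≫
        eqToIso (by rw [h]) ≪≫ e
    rw [ArSurfBase.finrank_HH_congr (k := k) e2 0, CurveCohLib.Clifford.finrank_h0_structure k] at hsec
    omega
  have h := SurfInt.pair_tensor_left k (dim_le_two hdim) hI hL hA.1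
  rw [SurfInt.pair_congr k e (Iso.refl A), SurfInt.pair_O_left, SurfInt.pair_ideal_left k _ hA.1] at h
  have := SurfInt.curveDeg_pos_of_ample k hA (SurfInt.dim_support_effCartier k hdim hD hne)
  omega

end Groth.Agent.NumSurf32
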