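import Groth.Agent.NumSurf32.Gram
import Groth.Agent.NumSurf32.Quick
import Groth.Agent.SurfInt.Nef
import Groth.Agent.Lib.CurveDualPrep
import Groth.Agent.VarBase.Restrict

/-!
# Sections and curves of negative degree
-/

set_option autoImplicit false
set_option linter.style.haveILetI false
set_option linter.unusedSectionVars false
set_option backward.isDefEq.respectTransparency false

universe u

open CategoryTheory CategoryTheory.Limits AlgebraicGeometry TopologicalSpace Opposite

noncomputable section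

namespace Groth.Agent.NumSurf32

open Groth.Agent
open Groth.Agent.H23.PicMul

variable {X : Scheme.{u}} (k : Type u) [Field k] [X.Over (Spec (CommRingCat.of k))]
  [IsProper (X ↘ Spec (CommRingCat.of k))]

/-- A module of negative degree on an integral curve has no sections there. -/
theorem finrank_h0_quot_tensor_eq_zero {Γ : X.IdealSheafData} [IsIntegral Γ.subscheme]
    (hΓ : topologicalKrullDim (Γ.support : Set X) = 1) {B : X.Modules} (hB : PicF.IsInvertible B)
    (hneg : SurfInt.curveDeg k Γ B < 0) :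
    Module.finrank k (Coh.HH X (CohB1.tensorMod (ClSub.quotMod Γ) B) 0) = 0 := by
  haveI := CurveCohLib.isNoetherian_of_proper (k := k) (X := X)
  let Z := Γ.subscheme
  letI : Z.Over (Spec (CommRingCat.of k)) := ⟨Γ.subschemeι ≫ (X ↘ Spec (CommRingCat.of k))⟩
  haveI : IsProper (Z ↘ Spec (CommRingCat.of k)) := SurfInt.isProper_over_of_closedImmersion k Γ.subschemeι rfl
  have hd : topologicalKrullDim Z = 1 := by
    rw [← hΓ, ← Scheme.IdealSheafData.range_subschemeι]
    exact IsHomeomorph.topologicalKrullDim_eq _ Γ.subschemeι.isEmbedding.toHomeomorph.isHomeomorph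
  rw [SurfInt.curveDeg_eq_deg k Γ (AmpleVan.isCoh_invertible hB).1 rfl] at hneg
  have hBZ := PicClLib.isInvertible_pullback Γ.subschemeι hB
  have h0 : Module.finrank k (Coh.HH Z ((Scheme.Modules.pullback Γ.subschemeι).obj B) 0) = 0 := by
    by_contra hne
    obtain ⟨s, hs⟩ := CurveRR.exists_hom_ne_zero k hne
    have := (CurveDeg.deg_le_and_isIso k hd.le CurveDeg.isInvertible_structureModule hBZ s hs).1
    rw [CurveDeg.deg_structureModule] at this
    exact absurd hneg (not_lt.2 this)
  obtain ⟨e⟩ := SurfInt.nonempty_HH_push k Γ.subschemeι rfl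
    (QCoh.isQCoh_pullback Γ.subschemeι (AmpleVan.isCoh_invertible hB).1) 0
  refine (ArSurfBase.finrank_HH_congr (k := k) (SurfInt.pushTensorIso Γ.subschemeι B) 0).trans ?_
  rw [← e.finrank_eq]
  exact h0

/-- Sections of a module of negative degree on a curve vanish on it. -/
theorem finrank_h0_ideal_tensor {Γ : X.IdealSheafData} [IsIntegral Γ.subscheme]
    (hΓ : topologicalKrullDim (Γ.support : Set X) = 1) {B : X.Modules} (hB : PicF.IsInvertible B)
    (hneg : SurfInt.curveDeg k Γ B < 0) :
    Module.finrank k (Coh.HH X (CohB1.tensorMod (ClSub.idealMod Γ) B) 0) = Module.finrank k (Coh.HH X B 0) := by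
  haveI := CurveCohLib.isNoetherian_of_proper (k := k) (X := X)
  haveI := AmpleVan.isEquivalence_tw hB
  haveI : (AmpleVan.tw B).Additive := Functor.additive_of_preserves_binary_products _
  have hBc := AmpleVan.isCoh_invertible hB
  have hS : ((SurfInt.idealSeq Γ).map (AmpleVan.tw B)).ShortExact :=
    (SurfInt.idealSeq_shortExact Γ).map_of_exact _
  have h1 : Coh.IsCoh ((SurfInt.idealSeq Γ).map (AmpleVan.tw B)).X₁ :=
    AmpleVan.isCoh_tensor (SurfInt.isCoh_idealMod Γ) hBc
  have h2 : Coh.IsCoh ((SurfInt.idealSeq Γ).map (AmpleVan.tw B)).X₂ :=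
    AmpleVan.isCoh_tensor QCoh.isCoh_structureModule' hBc
  have h3 : Coh.IsCoh ((SurfInt.idealSeq Γ).map (AmpleVan.tw B)).X₃ :=
    AmpleVan.isCoh_tensor (ParShLib.isCoh_quotMod Γ) hBc
  have h := VanGrowth.h0_le_add k hS h1 h2 h3
  have e : ((SurfInt.idealSeq Γ).map (AmpleVan.tw B)).X₂ ≅ B := SurfInt.tUnitL B
  have h0 : VanGrowth.h0 k ((SurfInt.idealSeq Γ).map (AmpleVan.tw B)).X₃ = 0 :=
    finrank_h0_quot_tensor_eq_zero k hΓ hB hneg
  have he : VanGrowth.h0 k ((SurfInt.idealSeq Γ).map (AmpleVan.tw B)).X₂ = Module.finrank k (Coh.HH X B 0) :=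
    ArSurfBase.finrank_HH_congr (k := k) e 0
  rw [he, h0, add_zero] at h
  exact le_antisymm h.1 h.2

variable [IsIntegral X] [Smooth (X ↘ Spec (CommRingCat.of k))] (hdim : topologicalKrullDim X = 2)

include k hdim

theorem isEffCartierIdeal_pow {Γ : X.IdealSheafData} [IsIntegral Γ.subscheme]
    (hΓ : topologicalKrullDim (Γ.support : Set X) = 1) (j : ℕ) : BlowUp.IsEffCartierIdeal (Γ ^ j) := by
  haveI := CurveCohLib.isNoetherian_of_proper (k := k) (X := X)
  induction j with
  | zero =>
    rw [pow_zero]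
    intro x
    obtain ⟨U, hU, a, -, -⟩ := isEffCartier_of_curve k hdim Γ hΓ x
    exact ⟨U, hU, 1, one_mem _, by simp [Ideal.span_singleton_one]⟩
  | succ j ih => rw [pow_succ]; exact ModPairLib.isEffCartier_mul ih (isEffCartier_of_curve k hdim Γ hΓ)

/-- Negative degree `-s` on a curve of self-intersection `-1`: sections vanish to order `s`. -/
theorem finrank_h0_tensor_pow {Γ : X.IdealSheafData} [IsIntegral Γ.subscheme]
    (hΓ : topologicalKrullDim (Γ.support : Set X) = 1)
    (hΓΓ : SurfInt.pair k (ClSub.idealMod Γ) (ClSub.idealMod Γ) = -1)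
    {L : X.Modules} (hL : PicF.IsInvertible L) (j : ℕ) (hj : SurfInt.curveDeg k Γ L + j ≤ 0) :
    Module.finrank k (Coh.HH X (CohB1.tensorMod L (ClSub.idealMod (Γ ^ j))) 0) = Module.finrank k (Coh.HH X L 0) ∧
      SurfInt.curveDeg k Γ (CohB1.tensorMod L (ClSub.idealMod (Γ ^ j))) = SurfInt.curveDeg k Γ L + j := by
  haveI := CurveCohLib.isNoetherian_of_proper (k := k) (X := X)
  have hG := isEffCartier_of_curve k hdim Γ hΓ
  have hGi := SurfInt.isInvertible_idealMod hG
  induction j with
  | zero =>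
    obtain ⟨e⟩ := nonempty_idealMod_top (X := X) (by simpa using isEffCartierIdeal_pow k hdim hΓ 0)
    have e2 : CohB1.tensorMod L (ClSub.idealMod (Γ ^ 0)) ≅ L :=
      SurfInt.tMapR L (eqToIso (congrArg ClSub.idealMod (pow_zero Γ)) ≪≫ e) ≪≫ SurfInt.tUnit L
    rw [ArSurfBase.finrank_HH_congr (k := k) e2 0, SurfInt.curveDeg_congr k Γ e2]
    simp
  | succ j ih =>
    obtain ⟨h0, hd⟩ := ih (by push_cast at hj; omega)
    have hP := isEffCartierIdeal_pow k hdim hΓ j
    have hPi := SurfInt.isInvertible_idealMod hP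
    obtain ⟨e⟩ := SurfInt.nonempty_idealMod_mul hP hG
    set B := CohB1.tensorMod L (ClSub.idealMod (Γ ^ j))
    have hB : PicF.IsInvertible B := InvX.isInvertible_tensorMod hL hPi
    have e2 : CohB1.tensorMod L (ClSub.idealMod (Γ ^ (j + 1))) ≅ CohB1.tensorMod (ClSub.idealMod Γ) B :=
      SurfInt.tMapR L (eqToIso (congrArg ClSub.idealMod (pow_succ Γ j)) ≪≫ e) ≪≫
        (SurfInt.tAssoc _ _ _).symm ≪≫ SurfInt.tComm _ _
    refine ⟨?_, ?_⟩
    · rw [ArSurfBase.finrank_HH_congr (k := k) e2 0, finrank_h0_ideal_tensor k hΓ hB (by push_cast at hj; omega), h0]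
    · rw [SurfInt.curveDeg_congr k Γ e2, SurfInt.curveDeg_tensor k (dim_le_two hdim) hG hGi hB, hd]
      have h2 := SurfInt.pair_ideal_left k Γ hGi
      push_cast
      omega

/-- The pullback of `O(1)` is nonnegative on every curve. -/
theorem curveDeg_pullback_twist_nonneg {n : ℕ} (σ : X ⟶ CohB1.ProjSpace n k) (ξ : X)
    (hξ : topologicalKrullDim ↥(closure ({ξ} : Set X)) = ((1 : ℕ) : WithBot ℕ∞)) :
    0 ≤ SurfInt.curveDeg k (VarBase.clIdeal ξ) ((Scheme.Modules.pullback σ).obj (Twist.twistProjSpace n k 1)) := by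
  haveI := CurveCohLib.isNoetherian_of_proper (k := k) (X := X)
  have hA := H75.GGMul.isAmple_one (k := k) (n := n)
  set H := (Scheme.Modules.pullback σ).obj (Twist.twistProjSpace n k 1)
  have hH : PicF.IsInvertible H := PicClLib.isInvertible_pullback σ hA.1
  obtain ⟨m, hm, s, hs, -⟩ := (AmpleX.isAmple_iff.1 hA).2.2 (σ ξ)
  obtain ⟨e⟩ := PicClLib.nonempty_pullback_structureModule σ
  obtain ⟨e'⟩ := VarBase.nonempty_pullback_tensorPow σ (Twist.twistProjSpace n k 1) m
  have hg := InvX.genLocus_pullback σ (InvX.isInvertible_tensorPow hA.1 m) s e.symm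
  obtain ⟨t, ht⟩ := AmpleX.exists_section_of_cl_eq
    (B := CohB1.tensorPow H m) (cl_eq_iff.2 ⟨e'⟩) (e.symm.hom ≫ (Scheme.Modules.pullback σ).map s)
  have hξt : ξ ∈ CohB1.genLocus _ t := by
    rw [ht, hg]; exact hs
  have h := SurfInt.curveDeg_nonneg_of_section k hξ.le (InvX.isInvertible_tensorPow hH m) t hξt
  haveI := SurfInt.isIntegral_clIdeal ξ
  have hd : topologicalKrullDim ((VarBase.clIdeal ξ).support : Set X) = 1 := by
    rw [← Scheme.IdealSheafData.range_subschemeι, VarBase.range_clIdeal, hξ]; rfl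
  have hI := SurfInt.isInvertible_idealMod (isEffCartier_of_curve k hdim _ hd)
  have h2 := SurfInt.pair_tensorPow_left k (dim_le_two hdim) hH hI m
  rw [SurfInt.pair_comm, SurfInt.pair_ideal_left k _ (InvX.isInvertible_tensorPow hH m),
    SurfInt.pair_comm k H, SurfInt.pair_ideal_left k _ hH] at h2
  have hm' : (0 : ℤ) < m := by exact_mod_cast hm
  nlinarith

/-- A module of negative degree against a pullback of `O(1)` has no sections. -/
theorem subsingleton_h0_of_pair_twist_neg {n : ℕ} (σ : X ⟶ CohB1.ProjSpace n k) {L : X.Modules}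
    (hL : PicF.IsInvertible L)
    (hLH : SurfInt.pair k L ((Scheme.Modules.pullback σ).obj (Twist.twistProjSpace n k 1)) < 0) :
    Subsingleton (Coh.HH X L 0) := by
  haveI := CurveCohLib.isNoetherian_of_proper (k := k) (X := X)
  refine not_nontrivial_iff_subsingleton.1 fun hnt => ?_
  haveI := hnt
  obtain ⟨s, hs⟩ := SurfInt.exists_mono_of_nontrivial_H0 hL
  have hs0 : s ≠ 0 := fun h0 => by
    subst h0
    exact CurveEnd.not_isZero _ 1 one_pos
      (InvEnd.isFinLocFreeOfRank_one InvX.isInvertible_structureModule) (IsZero.of_mono_zero _ L)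
  have h := (SurfInt.pair_nonneg_of_section k (dim_le_two hdim) hL
    (PicClLib.isInvertible_pullback σ (H75.GGMul.isAmple_one (k := k) (n := n)).1) s
    (SurfInt.genericPoint_mem_genLocus hL s hs0) (curveDeg_pullback_twist_nonneg k hdim σ)).1
  omega

end Groth.Agent.NumSurf32
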