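import Groth.Agent.NumSurf32.CompSeq
import Groth.Agent.NumSurf32.Plane
import Groth.Agent.NumSurf32.Connected
import Groth.Agent.SurfInt.Ample

/-!
# Effective divisors as multisets of curves: pairings, Euler characteristics and `H¹`
-/

set_option autoImplicit false
set_option linter.style.haveILetI false
set_option linter.unusedSectionVars false
set_option backward.isDefEq.respectTransparency false

universe u

open CategoryTheory CategoryTheory.Limits AlgebraicGeometry TopologicalSpace Opposite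

noncomputable section

namespace Groth.Agent.NumSurf32

open Groth.Agent
open Groth.Agent.PnCoh.Finite (mapLin deltaLin)

variable {X : Scheme.{u}}

/-- An integral curve, as an ideal. -/
def IsCurve (Γ : X.IdealSheafData) : Prop :=
  IsIntegral Γ.subscheme ∧ topologicalKrullDim (Γ.support : Set X) = 1

theorem isEffCartierIdeal_top (X : Scheme.{u}) : BlowUp.IsEffCartierIdeal (⊤ : X.IdealSheafData) := fun x => by
  obtain ⟨_, ⟨V, hV, rfl⟩, hxV, -⟩ := X.isBasis_affineOpens.exists_subset_of_mem_open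
    (Set.mem_univ x) isOpen_univ
  exact ⟨⟨V, hV⟩, hxV, 1, one_mem _, by simp⟩

theorem support_mul_subset_left (I J : X.IdealSheafData) :
    (I.support : Set X) ⊆ ((I * J).support : Set X) := by
  refine Scheme.IdealSheafData.support_antitone fun U => ?_
  rw [Scheme.IdealSheafData.ideal_mul, Pi.mul_apply]
  exact Ideal.mul_le_inf.trans inf_le_left

/-- `H¹` only shrinks along a nonzero map of invertible modules on an integral curve. -/
theorem surjective_h1_of_ne_zero {Z : Scheme.{u}} (k : Type u) [Field k] [Z.Over (Spec (CommRingCat.of k))]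
    [IsIntegral Z] [IsProper (Z ↘ Spec (CommRingCat.of k))] (hdim : topologicalKrullDim Z ≤ 1)
    {N L : Z.Modules} (hN : PicF.IsInvertible N) (hL : PicF.IsInvertible L) (φ : N ⟶ L) (hφ : φ ≠ 0) :
    Function.Surjective (mapLin k φ 1) := by
  haveI := CurveCohLib.isNoetherian_of_proper (k := k) (X := Z)
  haveI : Z.IsSeparated := SurfInt.isSeparated_of_proper k (X := Z)
  have hNc := CurveDeg.isCoh_of_isInvertible hN
  have hLc := CurveDeg.isCoh_of_isInvertible hL
  have hQ : Coh.IsCoh (cokernel φ) := QCoh.isCoh_cokernel hNc.1 hLc φ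
  haveI : Mono φ := InvEnd.mono_of_ne_zero hN hL φ hφ
  let S : ShortComplex Z.Modules := ShortComplex.mk φ (cokernel.π φ) (cokernel.condition φ)
  have hS : S.ShortExact :=
    { exact := ShortComplex.exact_of_g_is_cokernel _ (cokernelIsCokernel φ) }
  have hcl := QCoh.isClosed_support_of_isFT hQ.1 hQ.2
  have hdimQ : topologicalKrullDim (CohB1.support (cokernel φ)) ≤ 0 := by
    refine CurveDeg.topologicalKrullDim_le_zero_of_ne_univ hdim hcl fun hu => ?_
    obtain ⟨W, ⟨⟨w, hw⟩⟩, hW⟩ := CurveDeg.exists_open_surjective hN hL φ hφ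
    obtain ⟨_, ⟨V, hV, rfl⟩, hwV, hVW⟩ :=
      Z.isBasis_affineOpens.exists_subset_of_mem_open hw W.isOpen
    refine absurd (hu.symm.subset (Set.mem_univ w)) ((QCoh.notMem_support_iff hQ.1 hV hwV).2 fun m => ?_)
    obtain ⟨l, rfl⟩ := QCoh.app_surjective_of_epi hLc.1 hQ.1 (cokernel.π φ) hV m
    obtain ⟨n, rfl⟩ := hW V hVW l
    refine ⟨1, by rw [Z.basicOpen_of_isUnit isUnit_one]; exact hwV, ?_⟩
    rw [one_smul]
    exact congrArg (fun ψ => Scheme.Modules.Hom.app ψ V n) (cokernel.condition φ)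
  haveI : Subsingleton (Coh.HH Z (cokernel φ) 1) :=
    Snapper.subsingleton_HH_of_dim_lt 1 ⟨_, hcl⟩ (hdimQ.trans_lt (by exact_mod_cast zero_lt_one)) _ hQ.1
      subset_rfl 1 le_rfl
  intro y
  exact (CurveCohLib.ker_mapLin_g k hS 1).le
    (LinearMap.mem_ker.2 (Subsingleton.elim (mapLin k S.g 1 y) 0))

variable (k : Type u) [Field k] [X.Over (Spec (CommRingCat.of k))]
  [IsProper (X ↘ Spec (CommRingCat.of k))] [IsIntegral X] [Smooth (X ↘ Spec (CommRingCat.of k))]
  (hdim : topologicalKrullDim X = 2)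

include k hdim

theorem isEffCartier_prod (m : Multiset X.IdealSheafData) (hm : ∀ Γ ∈ m, IsCurve Γ) :
    BlowUp.IsEffCartierIdeal m.prod := by
  induction m using Multiset.induction with
  | empty => rw [Multiset.prod_zero]; exact isEffCartierIdeal_top X
  | cons Γ m ih =>
    haveI := (hm Γ (Multiset.mem_cons_self _ _)).1
    rw [Multiset.prod_cons]
    exact ModPairLib.isEffCartier_mul (isEffCartier_of_curve k hdim Γ (hm Γ (Multiset.mem_cons_self _ _)).2)
      (ih fun Δ hΔ => hm Δ (Multiset.mem_cons_of_mem hΔ))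

/-- Effective divisors are sums of curves. -/
theorem exists_multiset {A : X.Modules} (hA : CohB1.IsAmple A) {D : X.IdealSheafData}
    (hD : BlowUp.IsEffCartierIdeal D) : ∃ m : Multiset X.IdealSheafData, (∀ Γ ∈ m, IsCurve Γ) ∧ m.prod = D := by
  refine induction_curves k hdim hA (fun D => ∃ m : Multiset X.IdealSheafData, (∀ Γ ∈ m, IsCurve Γ) ∧ m.prod = D)
    (fun D _ hDt => ⟨0, fun Γ h => absurd h (Multiset.notMem_zero Γ), by rw [hDt, Multiset.prod_zero]; rfl⟩)
    (fun Γ E hΓi hΓd _ _ ⟨m, hm, hmE⟩ => ⟨Γ ::ₘ m, fun Δ hΔ => ?_, ?_⟩) hD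
  · rcases Multiset.mem_cons.1 hΔ with rfl | h
    · exact ⟨hΓi, hΓd⟩
    · exact hm Δ h
  · rw [Multiset.prod_cons, hmE, mul_comm]

theorem pair_idealMod_mul {I J : X.IdealSheafData} (hI : BlowUp.IsEffCartierIdeal I)
    (hJ : BlowUp.IsEffCartierIdeal J) {B : X.Modules} (hB : PicF.IsInvertible B) :
    SurfInt.pair k (ClSub.idealMod (I * J)) B =
      SurfInt.pair k (ClSub.idealMod I) B + SurfInt.pair k (ClSub.idealMod J) B := by
  haveI := CurveCohLib.isNoetherian_of_proper (k := k) (X := X)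
  obtain ⟨e⟩ := SurfInt.nonempty_idealMod_mul hI hJ
  rw [SurfInt.pair_congr k e (Iso.refl B), SurfInt.pair_tensor_left k (dim_le_two hdim)
    (SurfInt.isInvertible_idealMod hI) (SurfInt.isInvertible_idealMod hJ) hB]

theorem pair_prod (m : Multiset X.IdealSheafData) (hm : ∀ Γ ∈ m, IsCurve Γ) {B : X.Modules}
    (hB : PicF.IsInvertible B) :
    SurfInt.pair k (ClSub.idealMod m.prod) B = (m.map fun Γ => SurfInt.pair k (ClSub.idealMod Γ) B).sum := by
  induction m using Multiset.induction with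
  | empty =>
    obtain ⟨e⟩ := nonempty_idealMod_top (X := X) (isEffCartierIdeal_top X)
    rw [Multiset.map_zero, Multiset.sum_zero, Multiset.prod_zero]
    show SurfInt.pair k (ClSub.idealMod (⊤ : X.IdealSheafData)) B = 0
    rw [SurfInt.pair_congr k e (Iso.refl B), SurfInt.pair_O_left]
  | cons Γ m ih =>
    have hΓ := hm Γ (Multiset.mem_cons_self _ _)
    haveI := hΓ.1
    have hm' := fun Δ hΔ => hm Δ (Multiset.mem_cons_of_mem hΔ)
    rw [Multiset.prod_cons, Multiset.map_cons, Multiset.sum_cons,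
      pair_idealMod_mul k hdim (isEffCartier_of_curve k hdim Γ hΓ.2) (isEffCartier_prod k hdim m hm') hB, ih hm']

theorem euler_quotMod_mul {I J : X.IdealSheafData} (hI : BlowUp.IsEffCartierIdeal I)
    (hJ : BlowUp.IsEffCartierIdeal J) :
    Curv2.euler k X (ClSub.quotMod (I * J)) = Curv2.euler k X (ClSub.quotMod I) +
      Curv2.euler k X (ClSub.quotMod J) - SurfInt.pair k (ClSub.idealMod I) (ClSub.idealMod J) := by
  haveI := CurveCohLib.isNoetherian_of_proper (k := k) (X := X)
  obtain ⟨e⟩ := SurfInt.nonempty_idealMod_mul hI hJ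
  have h1 := SurfInt.euler_ideal k (I * J)
  rw [SurfInt.euler_congr k e] at h1
  have h2 := SurfInt.euler_ideal k I
  have h3 := SurfInt.euler_ideal k J
  unfold SurfInt.pair
  linarith

theorem euler_quotMod_top : Curv2.euler k X (ClSub.quotMod (⊤ : X.IdealSheafData)) = 0 := by
  obtain ⟨e⟩ := nonempty_idealMod_top (X := X) (isEffCartierIdeal_top X)
  have h := SurfInt.euler_ideal k (⊤ : X.IdealSheafData)
  rw [SurfInt.euler_congr k e] at h
  omega

/-- Twice the Euler characteristic of a sum of curves. -/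
theorem two_mul_euler_prod (m : Multiset X.IdealSheafData) (hm : ∀ Γ ∈ m, IsCurve Γ) :
    2 * Curv2.euler k X (ClSub.quotMod m.prod) =
      (m.map fun Γ => 2 * Curv2.euler k X (ClSub.quotMod Γ) +
        SurfInt.pair k (ClSub.idealMod Γ) (ClSub.idealMod Γ)).sum -
      SurfInt.pair k (ClSub.idealMod m.prod) (ClSub.idealMod m.prod) := by
  induction m using Multiset.induction with
  | empty =>
    rw [Multiset.map_zero, Multiset.sum_zero, Multiset.prod_zero]
    show 2 * Curv2.euler k X (ClSub.quotMod (⊤ : X.IdealSheafData)) =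
      0 - SurfInt.pair k (ClSub.idealMod (⊤ : X.IdealSheafData)) (ClSub.idealMod ⊤)
    obtain ⟨e⟩ := nonempty_idealMod_top (X := X) (isEffCartierIdeal_top X)
    rw [SurfInt.pair_congr k e e, SurfInt.pair_O_left, euler_quotMod_top k hdim]
    rfl
  | cons Γ m ih =>
    have hΓ := hm Γ (Multiset.mem_cons_self _ _)
    haveI := hΓ.1
    haveI := CurveCohLib.isNoetherian_of_proper (k := k) (X := X)
    have hm' := fun Δ hΔ => hm Δ (Multiset.mem_cons_of_mem hΔ)
    have hΓc := isEffCartier_of_curve k hdim Γ hΓ.2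
    have hP := isEffCartier_prod k hdim m hm'
    have hΓi := SurfInt.isInvertible_idealMod hΓc
    have hPi := SurfInt.isInvertible_idealMod hP
    have hmul := SurfInt.isInvertible_idealMod (ModPairLib.isEffCartier_mul hΓc hP)
    rw [Multiset.prod_cons, Multiset.map_cons, Multiset.sum_cons, euler_quotMod_mul k hdim hΓc hP,
      pair_idealMod_mul k hdim hΓc hP hmul, SurfInt.pair_comm k (ClSub.idealMod Γ) (ClSub.idealMod (Γ * m.prod)),
      SurfInt.pair_comm k (ClSub.idealMod m.prod) (ClSub.idealMod (Γ * m.prod)),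
      pair_idealMod_mul k hdim hΓc hP hΓi, pair_idealMod_mul k hdim hΓc hP hPi,
      SurfInt.pair_comm k (ClSub.idealMod m.prod) (ClSub.idealMod Γ)]
    linarith [ih hm']

/-- A sum of curves is positive against an ample module. -/
theorem pair_prod_ample_neg {A : X.Modules} (hA : CohB1.IsAmple A) (m : Multiset X.IdealSheafData)
    (hm : ∀ Γ ∈ m, IsCurve Γ) (hne : m ≠ 0) : SurfInt.pair k (ClSub.idealMod m.prod) A < 0 := by
  obtain ⟨Γ, hΓ⟩ := Multiset.exists_mem_of_ne_zero hne
  obtain ⟨m', rfl⟩ := Multiset.exists_cons_of_mem hΓ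
  rw [pair_prod k hdim _ hm hA.1, Multiset.map_cons, Multiset.sum_cons]
  have hneg : ∀ Δ ∈ Γ ::ₘ m', SurfInt.pair k (ClSub.idealMod Δ) A < 0 := fun Δ hΔ => by
    haveI := CurveCohLib.isNoetherian_of_proper (k := k) (X := X)
    rw [SurfInt.pair_ideal_left k _ hA.1, neg_lt_zero]
    exact SurfInt.curveDeg_pos_of_ample k hA (hm Δ hΔ).2
  have h1 := hneg Γ (Multiset.mem_cons_self _ _)
  have h2 : (m'.map fun Δ => SurfInt.pair k (ClSub.idealMod Δ) A).sum ≤ (m'.map fun _ => (0 : ℤ)).sum :=
    Multiset.sum_map_le_sum_map _ _ fun Δ hΔ => (hneg Δ (Multiset.mem_cons_of_mem hΔ)).le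
  simp only [Multiset.map_const', Multiset.sum_replicate, smul_zero] at h2
  omega

theorem prod_ne_top {A : X.Modules} (hA : CohB1.IsAmple A) (m : Multiset X.IdealSheafData)
    (hm : ∀ Γ ∈ m, IsCurve Γ) (hne : m ≠ 0) : m.prod ≠ ⊤ := fun h => by
  have h1 := pair_prod_ample_neg k hdim hA m hm hne
  obtain ⟨e⟩ := nonempty_idealMod_top (X := X) (isEffCartierIdeal_top X)
  rw [h, SurfInt.pair_congr k e (Iso.refl A), SurfInt.pair_O_left] at h1
  exact lt_irrefl _ h1

variable [IsAlgClosed k]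

omit hdim in
theorem finrank_h0_curve {Γ : X.IdealSheafData} (hΓ : IsCurve Γ) :
    Module.finrank k (Coh.HH X (ClSub.quotMod Γ) 0) = 1 := by
  haveI := hΓ.1
  refine S14700.finrank_h0_quotMod k Γ ?_
  rw [← Γ.range_subschemeι]
  exact isConnected_range Γ.subschemeι.continuous

/-- `χ = h⁰ - h¹` for modules on a divisor. -/
theorem euler_quotMod_eq {D : X.IdealSheafData} (hD : BlowUp.IsEffCartierIdeal D) :
    Curv2.euler k X (ClSub.quotMod D) = (Module.finrank k (Coh.HH X (ClSub.quotMod D) 0) : ℤ) -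
      Module.finrank k (Coh.HH X (ClSub.quotMod D) 1) := by
  haveI := CurveCohLib.isNoetherian_of_proper (k := k) (X := X)
  haveI : X.IsSeparated := SurfInt.isSeparated_of_proper k (X := X)
  have h1 := dim_support_le_one k hdim hD
  rw [Euler.euler_eq_sum k _ 2 fun i hi => Snapper.subsingleton_HH_of_dim_lt 2 D.support
      (h1.trans_lt (by exact_mod_cast one_lt_two)) _ (ParShLib.isCoh_quotMod D).1 (SurfInt.support_quotMod_subset' D) i hi,
    Finset.sum_range_succ, Finset.sum_range_one]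
  simp
  ring

theorem euler_curve_le_one {Γ : X.IdealSheafData} (hΓ : IsCurve Γ) : Curv2.euler k X (ClSub.quotMod Γ) ≤ 1 := by
  haveI := hΓ.1
  rw [euler_quotMod_eq k hdim (isEffCartier_of_curve k hdim Γ hΓ.2), finrank_h0_curve k hΓ]
  omega

/-- A nonempty divisor has a nonzero function. -/
theorem one_le_finrank_h0_quotMod {A : X.Modules} (hA : CohB1.IsAmple A) {D : X.IdealSheafData}
    (hD : BlowUp.IsEffCartierIdeal D) (hne : D ≠ ⊤) : 1 ≤ Module.finrank k (Coh.HH X (ClSub.quotMod D) 0) := by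
  haveI := CurveCohLib.isNoetherian_of_proper (k := k) (X := X)
  have h : VanGrowth.h0 k (SurfInt.idealSeq D).X₂ ≤
      VanGrowth.h0 k (SurfInt.idealSeq D).X₁ + VanGrowth.h0 k (SurfInt.idealSeq D).X₃ :=
    (VanGrowth.h0_le_add k (SurfInt.idealSeq_shortExact D) (SurfInt.isCoh_idealMod D)
      QCoh.isCoh_structureModule' (ParShLib.isCoh_quotMod D)).2
  have h1 : VanGrowth.h0 k (SurfInt.idealSeq D).X₁ = 0 := finrank_h0_idealMod_eq_zero k hdim hA hD hne
  have h2 : VanGrowth.h0 k (SurfInt.idealSeq D).X₂ = 1 := CurveCohLib.Clifford.finrank_h0_structure k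
  have h3 : VanGrowth.h0 k (SurfInt.idealSeq D).X₃ = Module.finrank k (Coh.HH X (ClSub.quotMod D) 0) := rfl
  omega

/-- On a rational curve `H¹` of a module of degree at least `-1` vanishes. -/
theorem subsingleton_h1_curve_tensor {Γ : X.IdealSheafData} (hΓ : IsCurve Γ)
    (hχ : 1 ≤ Curv2.euler k X (ClSub.quotMod Γ)) {B : X.Modules} (hB : PicF.IsInvertible B)
    (hdeg : -1 ≤ SurfInt.curveDeg k Γ B) :
    Subsingleton (Coh.HH X (CohB1.tensorMod (ClSub.quotMod Γ) B) 1) := by
  haveI := hΓ.1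
  haveI := CurveCohLib.isNoetherian_of_proper (k := k) (X := X)
  let Z := Γ.subscheme
  letI : Z.Over (Spec (CommRingCat.of k)) := ⟨Γ.subschemeι ≫ (X ↘ Spec (CommRingCat.of k))⟩
  haveI : IsProper (Z ↘ Spec (CommRingCat.of k)) := SurfInt.isProper_over_of_closedImmersion k Γ.subschemeι rfl
  haveI := CurveCohLib.isNoetherian_of_proper (k := k) (X := Z)
  have hd : topologicalKrullDim Z = 1 := by
    rw [← hΓ.2, ← Scheme.IdealSheafData.range_subschemeι]
    exact IsHomeomorph.topologicalKrullDim_eq _ Γ.subschemeι.isEmbedding.toHomeomorph.isHomeomorph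
  have hBq := (AmpleVan.isCoh_invertible hB).1
  rw [SurfInt.curveDeg_eq_deg k Γ hBq rfl] at hdeg
  set L := (Scheme.Modules.pullback Γ.subschemeι).obj B with hLdef
  have hL : PicF.IsInvertible L := PicClLib.isInvertible_pullback Γ.subschemeι hB
  have hOc : Coh.IsCoh (Coh.structureModule Z) := QCoh.isCoh_structureModule'
  have hO : Curv2.euler k Z (Coh.structureModule Z) = Curv2.euler k X (ClSub.quotMod Γ) :=
    (SurfInt.euler_push k Γ.subschemeι rfl QCoh.isQCoh_structureModule).symm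
  have hO' := CurveRR.euler_eq_h0_sub_h1 k hd.le hOc.1
  rw [CurveCohLib.Clifford.finrank_h0_structure k] at hO'
  have hL' := CurveRR.euler_eq_h0_sub_h1 k hd.le (AmpleVan.isCoh_invertible hL).1
  haveI := CurveCohLib.finite_HH (k := k) (AmpleVan.isCoh_invertible hL) 1
  have hZ1 : Subsingleton (Coh.HH Z L 1) := by
    have hdd : Curv2.deg k Z L 1 = Curv2.euler k Z L - Curv2.euler k Z (Coh.structureModule Z) := by
      unfold Curv2.deg; simp
    replace hdeg : -1 ≤ Curv2.deg k Z L 1 := hdeg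
    rcases eq_or_ne (Module.finrank k (Coh.HH Z L 0)) 0 with h0 | h0
    · exact Module.finrank_zero_iff.1 (show Module.finrank k (Coh.HH Z L 1) = 0 by omega)
    · obtain ⟨s, hs⟩ := CurveRR.exists_hom_ne_zero k h0
      haveI := CurveCohLib.finite_HH (k := k) hOc 1
      haveI : Subsingleton (Coh.HH Z (Coh.structureModule Z) 1) :=
        Module.finrank_zero_iff.1 (show Module.finrank k (Coh.HH Z (Coh.structureModule Z) 1) = 0 by omega)
      exact (surjective_h1_of_ne_zero k hd.le CurveDeg.isInvertible_structureModule hL s hs).subsingleton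
  obtain ⟨e⟩ := SurfInt.nonempty_HH_push k Γ.subschemeι rfl (QCoh.isQCoh_pullback Γ.subschemeι hBq) 1
  exact QCoh.subsingleton_HH_of_iso (SurfInt.pushTensorIso Γ.subschemeι B).symm 1 e.symm.injective.subsingleton

omit [IsAlgClosed k] hdim in
theorem subsingleton_h1_middle {S : ShortComplex X.Modules} (hS : S.ShortExact)
    (h₁ : Subsingleton (Coh.HH X S.X₁ 1)) (h₃ : Subsingleton (Coh.HH X S.X₃ 1)) :
    Subsingleton (Coh.HH X S.X₂ 1) := by
  refine subsingleton_of_forall_eq 0 fun x => ?_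
  obtain ⟨y, rfl⟩ : x ∈ LinearMap.range (mapLin k S.f 1) := by
    rw [← CurveCohLib.ker_mapLin_g k hS 1]
    exact LinearMap.mem_ker.2 (Subsingleton.elim _ _)
  rw [Subsingleton.elim y 0, map_zero]

theorem subsingleton_h1_mul {Γ E : X.IdealSheafData} (hΓ : IsCurve Γ) (hE : BlowUp.IsEffCartierIdeal E)
    (hχ : 1 ≤ Curv2.euler k X (ClSub.quotMod Γ))
    (hpair : SurfInt.pair k (ClSub.idealMod Γ) (ClSub.idealMod E) ≤ 1)
    (hE1 : Subsingleton (Coh.HH X (ClSub.quotMod E) 1)) :
    Subsingleton (Coh.HH X (ClSub.quotMod (Γ * E)) 1) := by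
  haveI := hΓ.1
  haveI := CurveCohLib.isNoetherian_of_proper (k := k) (X := X)
  have hEi := SurfInt.isInvertible_idealMod hE
  obtain ⟨S, hS, ⟨e₁⟩, ⟨e₂⟩, ⟨e₃⟩⟩ := exists_compSeq (isEffCartier_of_curve k hdim Γ hΓ.2) hE
  rw [SurfInt.pair_ideal_left k Γ hEi] at hpair
  refine QCoh.subsingleton_HH_of_iso e₂ 1 (subsingleton_h1_middle k hS ?_ ?_)
  · exact QCoh.subsingleton_HH_of_iso e₁.symm 1 (subsingleton_h1_curve_tensor k hdim hΓ hχ hEi (by omega))
  · exact QCoh.subsingleton_HH_of_iso e₃.symm 1 hE1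

/-- If all subdivisors have positive Euler characteristic, `H¹` vanishes. -/
theorem subsingleton_h1_prod (m : Multiset X.IdealSheafData) (hm : ∀ Γ ∈ m, IsCurve Γ)
    (hχ : ∀ n ≤ m, n ≠ 0 → 1 ≤ Curv2.euler k X (ClSub.quotMod n.prod)) :
    m ≠ 0 → Subsingleton (Coh.HH X (ClSub.quotMod m.prod) 1) := by
  classical
  induction m using Multiset.strongInductionOn with
  | ih m ih =>
    intro hne
    have hcurve : ∀ Γ ∈ m, 1 ≤ Curv2.euler k X (ClSub.quotMod Γ) := fun Γ hΓ => by
      have h := hχ {Γ} (Multiset.singleton_le.2 hΓ) (Multiset.singleton_ne_zero Γ)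
      rwa [Multiset.prod_singleton] at h
    obtain ⟨Γ, hΓ, hpair⟩ : ∃ Γ ∈ m,
        SurfInt.pair k (ClSub.idealMod Γ) (ClSub.idealMod (m.erase Γ).prod) ≤ 1 := by
      by_contra hcon
      push Not at hcon
      haveI := CurveCohLib.isNoetherian_of_proper (k := k) (X := X)
      have h := two_mul_euler_prod k hdim m hm
      have hDi := SurfInt.isInvertible_idealMod (isEffCartier_prod k hdim m hm)
      rw [pair_prod k hdim m hm hDi, ← Multiset.sum_map_sub] at h
      have hle : (m.map fun Γ => 2 * Curv2.euler k X (ClSub.quotMod Γ) +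
          SurfInt.pair k (ClSub.idealMod Γ) (ClSub.idealMod Γ) -
            SurfInt.pair k (ClSub.idealMod Γ) (ClSub.idealMod m.prod)).sum ≤ (m.map fun _ => (0 : ℤ)).sum := by
        refine Multiset.sum_map_le_sum_map _ _ fun Γ hΓ => ?_
        haveI := (hm Γ hΓ).1
        have hΓc := isEffCartier_of_curve k hdim Γ (hm Γ hΓ).2
        have hE := isEffCartier_prod k hdim (m.erase Γ) fun Δ hΔ => hm Δ (Multiset.mem_of_mem_erase hΔ)
        have h1 := hcon Γ hΓ
        rw [← Multiset.prod_erase hΓ, SurfInt.pair_comm k (ClSub.idealMod Γ) (ClSub.idealMod (Γ * (m.erase Γ).prod)),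
          pair_idealMod_mul k hdim hΓc hE (SurfInt.isInvertible_idealMod hΓc),
          SurfInt.pair_comm k (ClSub.idealMod (m.erase Γ).prod)]
        have h2 := euler_curve_le_one k hdim (hm Γ hΓ)
        omega
      simp only [Multiset.map_const', Multiset.sum_replicate, smul_zero] at hle
      have h3 := hχ m le_rfl hne
      omega
    rw [← Multiset.prod_erase hΓ]
    have hm' : ∀ Δ ∈ m.erase Γ, IsCurve Δ := fun Δ hΔ => hm Δ (Multiset.mem_of_mem_erase hΔ)
    rcases eq_or_ne (m.erase Γ) 0 with he | he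
    · rw [he, Multiset.prod_zero, mul_one]
      haveI := hm Γ hΓ |>.1
      haveI := CurveCohLib.isNoetherian_of_proper (k := k) (X := X)
      haveI := CurveCohLib.finite_HH (k := k) (ParShLib.isCoh_quotMod Γ) 1
      have h := euler_quotMod_eq k hdim (isEffCartier_of_curve k hdim Γ (hm Γ hΓ).2)
      rw [finrank_h0_curve k (hm Γ hΓ)] at h
      have h1 := hcurve Γ hΓ
      exact Module.finrank_zero_iff.1 (show Module.finrank k (Coh.HH X (ClSub.quotMod Γ) 1) = 0 by omega)
    · exact subsingleton_h1_mul k hdim (hm Γ hΓ) (isEffCartier_prod k hdim _ hm') (hcurve Γ hΓ) hpair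
        (ih _ (Multiset.erase_lt.2 hΓ) hm'
          (fun n hn => hχ n (hn.trans (Multiset.erase_le Γ m))) he)

/-- Multiplicities of a sum of given curves. -/
theorem pair_prod_count {r : ℕ} (C : Fin r → X.IdealSheafData) (hC : Function.Injective C)
    (m : Multiset X.IdealSheafData) (hm : ∀ Γ ∈ m, IsCurve Γ) (hsub : ∀ Γ ∈ m, ∃ i, Γ = C i)
    {B : X.Modules} (hB : PicF.IsInvertible B) :
    SurfInt.pair k (ClSub.idealMod m.prod) B =
      ∑ i, (by classical exact (m.count (C i) : ℤ)) * SurfInt.pair k (ClSub.idealMod (C i)) B := by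
  classical
  rw [pair_prod k hdim m hm hB, Finset.sum_multiset_map_count]
  simp only [nsmul_eq_mul]
  rw [show ∑ i, (m.count (C i) : ℤ) * SurfInt.pair k (ClSub.idealMod (C i)) B =
      ∑ Γ ∈ Finset.univ.image C, (m.count Γ : ℤ) * SurfInt.pair k (ClSub.idealMod Γ) B by
    rw [Finset.sum_image fun a _ b _ h => hC h]]
  refine Finset.sum_subset (fun Γ hΓ => ?_) fun Γ _ hΓ => ?_
  · obtain ⟨i, rfl⟩ := hsub Γ (Multiset.mem_toFinset.1 hΓ)
    exact Finset.mem_image_of_mem C (Finset.mem_univ i)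
  · rw [Multiset.count_eq_zero.2 fun h => hΓ (Multiset.mem_toFinset.2 h)]; simp

omit [IsAlgClosed k] hdim in
/-- A curve in a union of curves is one of them. -/
theorem exists_eq_of_support_subset {r : ℕ} (C : Fin r → X.IdealSheafData) (hCi : ∀ i, IsIntegral (C i).subscheme)
    (hCd : ∀ i, topologicalKrullDim ((C i).support : Set X) = 1) {Γ : X.IdealSheafData} (hΓ : IsCurve Γ)
    (h : (Γ.support : Set X) ⊆ ⋃ i, ((C i).support : Set X)) : ∃ i, Γ = C i := by
  haveI := hΓ.1
  have hg : Γ.subschemeι (genericPoint ↥Γ.subscheme) ∈ (Γ.support : Set X) := by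
    rw [← Scheme.IdealSheafData.range_subschemeι]; exact ⟨_, rfl⟩
  obtain ⟨i, hi⟩ := Set.mem_iUnion.1 (h hg)
  haveI := hCi i
  refine ⟨i, eq_of_support_subset (k := k) hΓ.2 (hCd i) ?_⟩
  rw [← Scheme.IdealSheafData.range_subschemeι Γ, SurfInt.range_eq_closure_genericPoint]
  exact closure_minimal (Set.singleton_subset_iff.2 hi) (C i).support.isClosed

omit k hdim [IsAlgClosed k] in
theorem le_prod_of_mem {m : Multiset X.IdealSheafData} {Γ : X.IdealSheafData} (h : Γ ∈ m) :
    (Γ.support : Set X) ⊆ (m.prod.support : Set X) := by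
  obtain ⟨m', rfl⟩ := Multiset.exists_cons_of_mem h
  rw [Multiset.prod_cons]
  exact support_mul_subset_left Γ m'.prod

end Groth.Agent.NumSurf32
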