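import Groth.Agent.NumSurf32.Basic
import Groth.Agent.ModPairLib.Quot
import Groth.Agent.QCoh.Devissage
import Groth.Agent.H23.RedSub
import Groth.Agent.ThetaPow.ZeroIdeal

/-!
# Effective divisors on a surface are sums of curves, tested against linear functions
-/

set_option autoImplicit false
set_option linter.style.haveILetI false
set_option linter.unusedSectionVars false
set_option backward.isDefEq.respectTransparency false

universe u

open CategoryTheory CategoryTheory.Limits AlgebraicGeometry TopologicalSpace Opposite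

noncomputable section

namespace Groth.Agent.NumSurf32

open Groth.Agent

variable {X : Scheme.{u}} (k : Type u) [Field k] [X.Over (Spec (CommRingCat.of k))]
  [IsProper (X ↘ Spec (CommRingCat.of k))] [IsIntegral X] (hdim : topologicalKrullDim X = 2)

include hdim in
theorem deg_genericPoint : VarDim.deg (X ↘ Spec (CommRingCat.of k)) (genericPoint X) = 2 := by
  have h := VarDim.topologicalKrullDim_eq_deg_genericPoint (X ↘ Spec (CommRingCat.of k))
  rw [hdim] at h
  have h2 : ((2 : ℕ) : ℕ∞) = (VarDim.deg (X ↘ Spec (CommRingCat.of k)) (genericPoint X) : ℕ∞) :=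
    WithBot.coe_injective h
  exact_mod_cast h2.symm

omit [IsProper (X ↘ Spec (CommRingCat.of k))] [X.Over (Spec (CommRingCat.of k))] in
theorem not_mem_support_genericPoint {D : X.IdealSheafData} (hD : BlowUp.IsEffCartierIdeal D) :
    genericPoint X ∉ (D.support : Set X) := by
  intro h
  obtain ⟨U, hU, a, ha, hI⟩ := hD (genericPoint X)
  haveI : Nonempty U.1 := ⟨⟨_, hU⟩⟩
  rw [SetLike.mem_coe, Scheme.IdealSheafData.mem_support_iff_of_mem hU, X.mem_zeroLocus_iff] at h
  have hb := h a (by rw [hI]; exact Ideal.mem_span_singleton_self a)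
  have hne : X.basicOpen a ≠ ⊥ := fun e => nonZeroDivisors.ne_zero ha ((basicOpen_eq_bot_iff a).1 e)
  obtain ⟨y, hy⟩ : ∃ y, y ∈ X.basicOpen a := by
    by_contra h'
    exact hne (Opens.ext (Set.eq_empty_iff_forall_notMem.2 fun y hy => h' ⟨y, hy⟩))
  exact hb (((genericPoint_spec X).mem_open_set_iff (X.basicOpen a).2).2 ⟨y, trivial, hy⟩)

include k hdim in
theorem dim_support_le_one {D : X.IdealSheafData} (hD : BlowUp.IsEffCartierIdeal D) :
    topologicalKrullDim (D.support : Set X) ≤ ((1 : ℕ) : WithBot ℕ∞) := by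
  set f := X ↘ Spec (CommRingCat.of k)
  rw [VarDim.topologicalKrullDim_set_eq_iSup_deg f D.support.isClosed]
  refine iSup_le fun z => ?_
  have h1 : VarDim.deg f z.1 < VarDim.deg f (genericPoint X) :=
    VarDim.deg_strictMono f (lt_iff_le_not_ge.2 ⟨genericPoint_specializes z.1, fun h =>
      not_mem_support_genericPoint hD (D.support.isClosed.stableUnderSpecialization h z.2)⟩)
  rw [deg_genericPoint k hdim] at h1
  have h2 : VarDim.deg f z.1 ≤ 1 := by omega
  exact_mod_cast h2

include k hdim in
/-- A nonempty effective divisor contains an integral curve. -/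
theorem exists_curve_ge {D : X.IdealSheafData} (hD : BlowUp.IsEffCartierIdeal D)
    (hne : (D.support : Set X).Nonempty) :
    ∃ Γ : X.IdealSheafData, IsIntegral Γ.subscheme ∧ topologicalKrullDim (Γ.support : Set X) = 1 ∧ D ≤ Γ := by
  set f := X ↘ Spec (CommRingCat.of k)
  haveI := CurveCohLib.isNoetherian_of_proper (k := k) (X := X)
  obtain ⟨x, hx⟩ := hne
  obtain ⟨U, hU, a, ha, hI⟩ := hD x
  obtain ⟨q, rfl⟩ := VarDim.exists_fromSpec_eq U.2 hU
  haveI : IsNoetherianRing Γ(X, U.1) := IsLocallyNoetherian.component_noetherian U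
  have haq : Ideal.span {a} ≤ q.asIdeal := by
    rw [Ideal.span_singleton_le_iff_mem]
    by_contra h
    rw [SetLike.mem_coe, Scheme.IdealSheafData.mem_support_iff_of_mem hU, X.mem_zeroLocus_iff] at hx
    exact hx a (by rw [hI]; exact Ideal.mem_span_singleton_self a) ((QCoh.mem_basicOpen_fromSpec U.2 q a).2 h)
  obtain ⟨P, hP, hPq⟩ := Ideal.exists_minimalPrimes_le haq
  haveI hPp : P.IsPrime := hP.1.1
  have hh : P.height ≤ 1 := Ideal.height_le_one_of_isPrincipal_of_mem_minimalPrimes (Ideal.span {a}) P hP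
  let p : PrimeSpectrum Γ(X, U.1) := ⟨P, hPp⟩
  set y := U.2.fromSpec p
  have hy : y ∈ (D.support : Set X) := by
    rw [SetLike.mem_coe, Scheme.IdealSheafData.mem_support_iff_of_mem (VarDim.fromSpec_mem U.2 p),
      X.mem_zeroLocus_iff]
    intro b hb hyb
    exact (QCoh.mem_basicOpen_fromSpec U.2 p b).1 hyb (hP.1.2 (hI ▸ hb))
  obtain ⟨b, hb, ⟨η, -, hη⟩, hle⟩ := VarDim.exists_deg_add_stalk f y
  have hb1 : b ≤ 1 := by
    rw [VarDim.ringKrullDim_stalk_fromSpec U.2 p, ← PrimeSpectrum.height_eq_orderHeight] at hb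
    have hb' : p.asIdeal.height = (b : ℕ∞) := WithBot.coe_injective hb
    have h1 : ((b : ℕ) : ℕ∞) ≤ ((1 : ℕ) : ℕ∞) := hb' ▸ (by exact_mod_cast hh)
    exact_mod_cast h1
  have h2 := hle _ (genericPoint_specializes y)
  rw [deg_genericPoint k hdim] at h2
  have h3 : topologicalKrullDim (closure ({y} : Set X)) ≤ ((1 : ℕ) : WithBot ℕ∞) := by
    rw [VarDim.topologicalKrullDim_closure_singleton f y]
    have h4 : VarDim.deg f y < VarDim.deg f (genericPoint X) :=
      VarDim.deg_strictMono f (lt_iff_le_not_ge.2 ⟨genericPoint_specializes y, fun h =>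
        not_mem_support_genericPoint hD (D.support.isClosed.stableUnderSpecialization h hy)⟩)
    rw [deg_genericPoint k hdim] at h4
    have h5 : VarDim.deg f y ≤ 1 := by omega
    exact_mod_cast h5
  have hdeg : VarDim.deg f y = 1 := by
    rw [VarDim.topologicalKrullDim_closure_singleton f y] at h3
    have h5 : VarDim.deg f y ≤ 1 := by exact_mod_cast h3
    omega
  refine ⟨Scheme.IdealSheafData.vanishingIdeal (Closeds.closure {y}), QCoh.isIntegral_closure_point y, ?_, ?_⟩
  · have hs : ((Scheme.IdealSheafData.vanishingIdeal (Closeds.closure {y})).support : Set X) = closure {y} := by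
      rw [← Scheme.IdealSheafData.range_subschemeι]
      exact H23.RedSub.range_vanishingIdeal _
    rw [hs, VarDim.topologicalKrullDim_closure_singleton f y, hdeg]
    rfl
  · rw [← Scheme.IdealSheafData.le_support_iff_le_vanishingIdeal]
    exact closure_minimal (Set.singleton_subset_iff.2 hy) D.support.isClosed

omit [IsIntegral X] in
/-- The degree of an ample module on a subscheme of dimension at most one. -/
theorem curveDeg_ample {H : X.Modules} (hH : CohB1.IsAmple H) (Γ : X.IdealSheafData)
    (hΓ : topologicalKrullDim (Γ.support : Set X) ≤ ((1 : ℕ) : WithBot ℕ∞)) :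
    0 ≤ SurfInt.curveDeg k Γ H ∧
      (topologicalKrullDim (Γ.support : Set X) = ((1 : ℕ) : WithBot ℕ∞) → 0 < SurfInt.curveDeg k Γ H) := by
  let Z := Γ.subscheme
  letI : Z.Over (Spec (CommRingCat.of k)) := ⟨Γ.subschemeι ≫ (X ↘ Spec (CommRingCat.of k))⟩
  haveI : IsProper (Z ↘ Spec (CommRingCat.of k)) := SurfInt.isProper_over_of_closedImmersion k Γ.subschemeι rfl
  haveI := CurveCohLib.isNoetherian_of_proper (k := k) (X := X)
  haveI := CurveCohLib.isNoetherian_of_proper (k := k) (X := Z)
  haveI : CompactSpace X := QuasiCompact.compactSpace_of_compactSpace (X ↘ Spec (CommRingCat.of k))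
  haveI : CompactSpace Z := Γ.subschemeι.isClosedEmbedding.compactSpace
  have hd : topologicalKrullDim Z = topologicalKrullDim (Γ.support : Set X) := by
    rw [← Scheme.IdealSheafData.range_subschemeι]
    exact IsHomeomorph.topologicalKrullDim_eq _ Γ.subschemeι.isEmbedding.toHomeomorph.isHomeomorph
  have hHZ := AmpleVan.isAmple_pullback_of_isEmbedding Γ.subschemeι Γ.subschemeι.isClosedEmbedding.isEmbedding hH
  have hds : topologicalKrullDim ↥(CohB1.support (Coh.structureModule Z)) =
      topologicalKrullDim (Γ.support : Set X) := by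
    rw [VanGrowth.support_structureModule, VanGrowth.dim_univ, hd]
  have h := HilbPoly.mult_nonneg_and_pos k hHZ 1 _ QCoh.isCoh_structureModule' (hds.trans_le hΓ)
  rw [VarBase.mult_one_eq_deg, ← SurfInt.curveDeg_eq_deg k Γ (AmpleVan.isCoh_invertible hH.1).1 rfl] at h
  exact ⟨h.1, fun e => h.2 (hds.trans e)⟩

variable [Smooth (X ↘ Spec (CommRingCat.of k))]

include k hdim in
/-- Effective divisors are sums of integral curves: an induction principle for ideals. -/
theorem induction_curves {A : X.Modules} (hA : CohB1.IsAmple A) (P : X.IdealSheafData → Prop)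
    (htop : ∀ D : X.IdealSheafData, BlowUp.IsEffCartierIdeal D → D = ⊤ → P D)
    (hstep : ∀ Γ E : X.IdealSheafData, IsIntegral Γ.subscheme → topologicalKrullDim (Γ.support : Set X) = 1 →
      BlowUp.IsEffCartierIdeal Γ → BlowUp.IsEffCartierIdeal E → P E → P (E * Γ))
    {D : X.IdealSheafData} (hD : BlowUp.IsEffCartierIdeal D) : P D := by
  haveI := CurveCohLib.isNoetherian_of_proper (k := k) (X := X)
  have h2 := dim_le_two (X := X) hdim
  induction hn : (SurfInt.curveDeg k D A).toNat using Nat.strong_induction_on generalizing D with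
  | _ n ih =>
    rcases (D.support : Set X).eq_empty_or_nonempty with he | hne
    · exact htop D hD ((Scheme.IdealSheafData.support_eq_bot_iff D).1 (SetLike.ext' he))
    · obtain ⟨Γ, hΓint, hΓdim, hle⟩ := exists_curve_ge k hdim hD hne
      haveI := hΓint
      have hΓ := SurfInt.isEffCartier_curve k hdim
        (fun x => GrpSchLib.isRegularLocalRing_stalk_of_smooth (X ↘ Spec (CommRingCat.of k)) x) Γ hΓdim
      have hEq := ModPairLib.colon_mul hΓ hle
      set E := ModPairLib.colon D Γ (ModPairLib.isLocPrincipal_of_isEffCartier hΓ)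
      have hE : BlowUp.IsEffCartierIdeal E := ModPairLib.isEffCartier_of_mul hΓ (hEq.symm ▸ hD)
      rw [← hEq]
      refine hstep Γ E hΓint hΓdim hΓ hE (ih _ ?_ hE rfl)
      obtain ⟨e⟩ := SurfInt.nonempty_idealMod_mul hE hΓ
      have h := SurfInt.pair_tensor_left k h2 (SurfInt.isInvertible_idealMod hE) (SurfInt.isInvertible_idealMod hΓ) hA.1
      rw [← SurfInt.pair_congr k e (Iso.refl A), SurfInt.pair_ideal_left k _ hA.1, SurfInt.pair_ideal_left k _ hA.1,
        SurfInt.pair_ideal_left k _ hA.1, hEq] at h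
      have h0 := (curveDeg_ample k hA E (dim_support_le_one k hdim hE)).1
      have h1 := (curveDeg_ample k hA Γ hΓdim.le).2 hΓdim
      omega

variable [PicGrp.Law X]
  {B : NumR.N1R k X →ₗ[ℝ] NumR.N1R k X →ₗ[ℝ] ℝ} (hB : NumR.IsIntForm₂ k X B)

include hdim hB in
/-- A nef class pairs nonnegatively with modules having sections. -/
theorem nef_apply_section {A : X.Modules} (hA : CohB1.IsAmple A) {x : NumR.N1R k X}
    (hx : x ∈ NumR.nefCone₂ k X B) {L : X.Modules} (hL : PicF.IsInvertible L)
    (s : Coh.structureModule X ⟶ L) (hs : s ≠ 0) : 0 ≤ B x (NumR.clR k X L hL) := by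
  have hD := ThetaPow.isEffCartier_zeroScheme hL s hs
  have hI := SurfInt.isInvertible_idealMod hD
  obtain ⟨e⟩ := ThetaPow.nonempty_idealMod_zeroScheme hL s hs
  have h : NumR.clR k X L hL = - NumR.clR k X _ hI := by
    refine eq_neg_of_add_eq_zero_right ?_
    rw [← clR_tensor hI hL, clR_congr (k := k) e _ (SurfInt.isInvertible_O X), clR_structureModule]
  rw [h, map_neg, neg_nonneg]
  suffices H : ∀ hI, B x (NumR.clR k X (ClSub.idealMod (PicF2.zeroScheme L s)) hI) ≤ 0 from H hI
  refine induction_curves k hdim hA (fun D => ∀ hI, B x (NumR.clR k X (ClSub.idealMod D) hI) ≤ 0)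
    (fun D _ hDt hI => ?_) (fun Γ E hΓint hΓdim hΓ hE ih hI => ?_) hD
  · subst hDt
    rename_i hD'
    obtain ⟨e⟩ := SurfInt.nonempty_idealMod_mul hD' hD'
    have h1 := clR_congr (k := k) ((eqToIso (congrArg ClSub.idealMod (show (⊤ : X.IdealSheafData) = ⊤ * ⊤ by simp))) ≪≫ e) hI
      (InvX.isInvertible_tensorMod hI hI)
    rw [clR_tensor hI hI] at h1
    rw [left_eq_add.1 h1, map_zero]
  · obtain ⟨e⟩ := SurfInt.nonempty_idealMod_mul hE hΓ
    rw [clR_congr e hI (InvX.isInvertible_tensorMod (SurfInt.isInvertible_idealMod hE)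
      (SurfInt.isInvertible_idealMod hΓ)), clR_tensor (SurfInt.isInvertible_idealMod hE) (SurfInt.isInvertible_idealMod hΓ), map_add]
    have h1 := hx Γ hΓint hΓdim (SurfInt.isInvertible_idealMod hΓ)
    rw [NumR.curveCl, map_neg, neg_nonneg] at h1
    exact add_nonpos (ih _) h1

end Groth.Agent.NumSurf32
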