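import Groth.Agent.NumSurf32.Quick
import Groth.Agent.SurfInt.H2Bound
import Groth.Agent.SurfInt.Nef

/-!
# The Euler characteristic of a numerically trivial module on a surface

The Euler characteristic of the powers of a numerically trivial module is linear in the exponent and
bounded above: a nonzero `H²` bounds the sections of a fixed positive twist.
-/

set_option autoImplicit false
set_option linter.style.haveILetI false
set_option linter.unusedSectionVars false
set_option backward.isDefEq.respectTransparency false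

universe u

open CategoryTheory CategoryTheory.Limits AlgebraicGeometry TopologicalSpace Opposite

noncomputable section

namespace Groth.Agent.NumSurf32

open Groth.Agent
open Groth.Agent.H23.PicMul

variable {X : Scheme.{u}} (k : Type u) [Field k] [IsAlgClosed k] [X.Over (Spec (CommRingCat.of k))]
  [IsProper (X ↘ Spec (CommRingCat.of k))] [IsIntegral X]

theorem euler_eq_of_numTrivial_aux (hdim : topologicalKrullDim X = 2) {A N : X.Modules} (hA : CohB1.IsAmple A)
    (hN : PicF.IsInvertible N) (hnum : ∀ M : X.Modules, PicF.IsInvertible M → SurfInt.pair k N M = 0) :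
    Curv2.euler k X N ≤ Curv2.euler k X (Coh.structureModule X) := by
  haveI := CurveCohLib.isNoetherian_of_proper (k := k) (X := X)
  have h2 := dim_le_two (X := X) hdim
  by_contra hlt
  set χO := Curv2.euler k X (Coh.structureModule X) with hχO
  set a := Curv2.euler k X N - χO with ha
  have ha1 : 1 ≤ a := by omega
  have hNn := fun n => InvX.isInvertible_tensorPow hN n
  have hχn : ∀ n : ℕ, Curv2.euler k X (CohB1.tensorPow N n) = χO + n * a := fun n => by
    induction n with
    | zero =>
      show Curv2.euler k X (Coh.structureModule X) = _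
      simp [hχO]
    | succ n ih =>
      show Curv2.euler k X (CohB1.tensorMod (CohB1.tensorPow N n) N) = _
      rw [SurfInt.euler_tensor_eq, SurfInt.pair_tensorPow_left k h2 hN hN, hnum N hN, ih]
      push_cast
      simp only [ha, hχO]
      ring
  obtain ⟨n₀, hn₀⟩ := SurfInt.exists_bound_h2_vanish k h2 hA
  obtain ⟨j, hj⟩ : ∃ j : ℕ, n₀ < j * SurfInt.pair k A A := by
    have hpos := SurfInt.pair_self_pos_of_ample k hdim hA
    refine ⟨n₀.toNat + 1, ?_⟩
    push_cast
    nlinarith [Int.self_le_toNat n₀]
  have hAj := InvX.isInvertible_tensorPow hA.1 j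
  obtain ⟨A', hA', ⟨e⟩⟩ := H23.PicInv.exists_inverse hA.1
  have hA'j := InvX.isInvertible_tensorPow hA' j
  set b := (Growth22.h k (CohB1.tensorPow A' j) 2 : ℤ) with hb
  set c := Curv2.euler k X (CohB1.tensorPow A j) with hc
  obtain ⟨n, hn⟩ : ∃ n : ℕ, b + |c| + |χO| + 2 < n * a := by
    refine ⟨(b + |c| + |χO| + 3).toNat, ?_⟩
    nlinarith [Int.self_le_toNat (b + |c| + |χO| + 3), Int.natCast_nonneg (b + |c| + |χO| + 3).toNat]
  have hM := hNn n
  -- `χ ≤ h⁰ + h²`
  have hχle : ∀ L : X.Modules, PicF.IsInvertible L → Curv2.euler k X L ≤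
      (Growth22.h k L 0 : ℤ) + Growth22.h k L 2 := fun L hL => by
    rw [← SurfInt.eulerCharLE_two k h2 (AmpleVan.isCoh_invertible hL).1]
    unfold FGA.eulerCharLE
    simp only [Finset.sum_range_succ, Finset.sum_range_zero, Growth22.h]
    ring_nf
    omega
  have hh0 : Growth22.h k (CohB1.tensorPow N n) 0 ≤ 1 := by
    by_contra h1
    have := pair_pos_of_one_lt_h0 k hdim hA hM (show 1 < Module.finrank k (Coh.HH X (CohB1.tensorPow N n) 0) from
      not_le.1 h1)
    rw [SurfInt.pair_tensorPow_left k h2 hN hA.1, hnum A hA.1, mul_zero] at this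
    exact lt_irrefl _ this
  haveI : Nontrivial (Coh.HH X (CohB1.tensorPow N n) 2) := not_subsingleton_iff_nontrivial.1 fun hs => by
    have h0 : Growth22.h k (CohB1.tensorPow N n) 2 = 0 := Module.finrank_zero_of_subsingleton
    have h3 := hχle _ hM
    rw [hχn, h0] at h3
    have hb0 : 0 ≤ b := Int.natCast_nonneg _
    have := abs_nonneg c
    have := neg_abs_le χO
    omega
  -- but a fixed positive twist gets many sections
  have hkey := SurfInt.h0_le_h2_of_nontrivial k h2 (L := CohB1.tensorPow A' j) (D := CohB1.tensorPow A j)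
    (M := CohB1.tensorPow N n) hA'j hM
    (by rw [cl_tensorPow, cl_tensorPow, ← mul_pow, mul_comm, ← cl_tensor, cl_eq_iff.2 ⟨e⟩,
      ← H23.PicMul.one_def, one_pow])
  have hT := InvX.isInvertible_tensorMod hAj hM
  have hv : Growth22.h k (CohB1.tensorMod (CohB1.tensorPow A j) (CohB1.tensorPow N n)) 2 = 0 := by
    haveI := hn₀ _ hT (by
      rw [SurfInt.pair_tensor_left k h2 hAj hM hA.1, SurfInt.pair_tensorPow_left k h2 hA.1 hA.1,
        SurfInt.pair_tensorPow_left k h2 hN hA.1, hnum A hA.1, mul_zero, add_zero]
      exact hj)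
    exact Module.finrank_zero_of_subsingleton
  have h4 := hχle _ hT
  rw [SurfInt.euler_tensor_eq, SurfInt.pair_comm, SurfInt.pair_tensorPow_left k h2 hN hAj, hnum _ hAj, mul_zero,
    hχn, hv] at h4
  have h5 : (Growth22.h k (CohB1.tensorMod (CohB1.tensorPow A j) (CohB1.tensorPow N n)) 0 : ℤ) ≤ b := by
    rw [hb]
    refine Int.ofNat_le.2 ?_
    exact hkey
  have := neg_abs_le c
  have := le_abs_self c
  have := abs_nonneg χO
  simp only [← hc, ← hχO] at h4
  omega

/-- A numerically trivial module has the Euler characteristic of `O`. -/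
theorem euler_eq_of_numTrivial (hdim : topologicalKrullDim X = 2) {A N : X.Modules} (hA : CohB1.IsAmple A)
    (hN : PicF.IsInvertible N) (hnum : ∀ M : X.Modules, PicF.IsInvertible M → SurfInt.pair k N M = 0) :
    Curv2.euler k X N = Curv2.euler k X (Coh.structureModule X) := by
  haveI := CurveCohLib.isNoetherian_of_proper (k := k) (X := X)
  have h2 := dim_le_two (X := X) hdim
  obtain ⟨N', hN', ⟨e⟩⟩ := H23.PicInv.exists_inverse hN
  have hnum' : ∀ M : X.Modules, PicF.IsInvertible M → SurfInt.pair k N' M = 0 := fun M hM => by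
    rw [SurfInt.pair_inverse_left k h2 hN hN' hM e, hnum M hM, neg_zero]
  have h := SurfInt.euler_tensor_eq k N N'
  rw [SurfInt.euler_congr k e, hnum N' hN'] at h
  have h1 := euler_eq_of_numTrivial_aux k hdim hA hN hnum
  have h3 := euler_eq_of_numTrivial_aux k hdim hA hN' hnum'
  omega

end Groth.Agent.NumSurf32
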