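import Groth.Agent.NumSurf32.Rational
import Groth.Agent.Lib.CurveTensor

/-!
# The fundamental cycle of a configuration of curves
-/

set_option autoImplicit false
set_option linter.style.haveILetI false
set_option linter.unusedSectionVars false
set_option backward.isDefEq.respectTransparency false

universe u

open CategoryTheory CategoryTheory.Limits AlgebraicGeometry TopologicalSpace Opposite

noncomputable section

namespace Groth.Agent.NumSurf32

open Groth.Agent
open Groth.Agent.PnCoh.Finite (mapLin deltaLin)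

variable {X : Scheme.{u}} (k : Type u) [Field k] [X.Over (Spec (CommRingCat.of k))]
  [IsProper (X ↘ Spec (CommRingCat.of k))] [IsIntegral X] [Smooth (X ↘ Spec (CommRingCat.of k))]
  (hdim : topologicalKrullDim X = 2)

include k hdim

/-- Higher cohomology of a module on a divisor vanishes. -/
theorem subsingleton_HH_quotMod_tensor {D : X.IdealSheafData} (hD : BlowUp.IsEffCartierIdeal D)
    {B : X.Modules} (hB : PicF.IsInvertible B) {i : ℕ} (hi : 2 ≤ i) :
    Subsingleton (Coh.HH X (CohB1.tensorMod (ClSub.quotMod D) B) i) := by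
  haveI := CurveCohLib.isNoetherian_of_proper (k := k) (X := X)
  haveI : X.IsSeparated := SurfInt.isSeparated_of_proper k (X := X)
  refine QCoh.subsingleton_HH_of_iso (SurfInt.tComm B (ClSub.quotMod D)) i ?_
  refine Snapper.subsingleton_HH_of_dim_lt 2 D.support
    ((dim_support_le_one k hdim hD).trans_lt (by exact_mod_cast one_lt_two)) _
    (AmpleVan.isCoh_tensor (AmpleVan.isCoh_invertible hB) (ParShLib.isCoh_quotMod D)).1
    ((CurveTensor.support_tensor_subset (E := B) (F := ClSub.quotMod D)).trans (SurfInt.support_quotMod_subset' D))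
    i hi

/-- `H¹` of a divisor surjects to `H¹` of a subdivisor. -/
theorem subsingleton_h1_of_mul {J E : X.IdealSheafData} (hJ : BlowUp.IsEffCartierIdeal J)
    (hE : BlowUp.IsEffCartierIdeal E) (h : Subsingleton (Coh.HH X (ClSub.quotMod (J * E)) 1)) :
    Subsingleton (Coh.HH X (ClSub.quotMod E) 1) := by
  obtain ⟨S, hS, ⟨e₁⟩, ⟨e₂⟩, ⟨e₃⟩⟩ := exists_compSeq hJ hE
  haveI : Subsingleton (Coh.HH X S.X₁ (1 + 1)) := QCoh.subsingleton_HH_of_iso e₁.symm _
    (subsingleton_HH_quotMod_tensor k hdim hJ (SurfInt.isInvertible_idealMod hE) le_rfl)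
  haveI : Subsingleton (Coh.HH X S.X₂ 1) := QCoh.subsingleton_HH_of_iso e₂.symm _ h
  refine QCoh.subsingleton_HH_of_iso e₃ 1 (subsingleton_of_forall_eq 0 fun x => ?_)
  obtain ⟨y, rfl⟩ : x ∈ LinearMap.range (mapLin k S.g 1) := by
    rw [← CurveCohLib.ker_deltaLin k hS 1]
    exact LinearMap.mem_ker.2 (Subsingleton.elim _ _)
  rw [Subsingleton.elim y 0, map_zero]

theorem euler_quotMod_tensor (D : X.IdealSheafData) {B : X.Modules} (hB : PicF.IsInvertible B) :
    Curv2.euler k X (CohB1.tensorMod (ClSub.quotMod D) B) =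
      Curv2.euler k X (ClSub.quotMod D) - SurfInt.pair k (ClSub.idealMod D) B := by
  rw [SurfInt.pair_ideal_left k D hB]
  unfold SurfInt.curveDeg
  ring

/-- A curve outside a sum of curves meets it nonnegatively. -/
theorem pair_prod_nonneg {r : ℕ} (C : Fin r → X.IdealSheafData) (hC : Function.Injective C)
    (hCi : ∀ i, IsIntegral (C i).subscheme) (hCd : ∀ i, topologicalKrullDim ((C i).support : Set X) = 1)
    (i : Fin r) (q : Multiset X.IdealSheafData) (hq : ∀ Γ ∈ q, IsCurve Γ) (hsub : ∀ Γ ∈ q, ∃ j, Γ = C j)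
    (hi : C i ∉ q) : 0 ≤ SurfInt.pair k (ClSub.idealMod (C i)) (ClSub.idealMod q.prod) := by
  rw [SurfInt.pair_comm k, pair_prod k hdim q hq (isInvertible_curve k hdim C hCi hCd i)]
  refine Multiset.sum_nonneg fun z hz => ?_
  obtain ⟨Γ, hΓ, rfl⟩ := Multiset.mem_map.1 hz
  obtain ⟨j, rfl⟩ := hsub Γ hΓ
  exact pair_curve_nonneg k hdim C hCi hCd hC j i fun hji => hi (hji ▸ hΓ)

theorem support_prod_subset {r : ℕ} (C : Fin r → X.IdealSheafData) (m : Multiset X.IdealSheafData)
    (h : ∀ Γ ∈ m, ∃ i, Γ = C i) : (m.prod.support : Set X) ⊆ ⋃ i, ((C i).support : Set X) := by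
  induction m using Multiset.induction with
  | empty =>
    rw [Multiset.prod_zero]
    show ((⊤ : X.IdealSheafData).support : Set X) ⊆ _
    rw [Scheme.IdealSheafData.support_top]
    simp
  | cons Γ m ih =>
    obtain ⟨i, rfl⟩ := h Γ (Multiset.mem_cons_self _ _)
    rw [Multiset.prod_cons, Scheme.IdealSheafData.support_mul]
    exact Set.union_subset (Set.subset_iUnion (fun j => ((C j).support : Set X)) i)
      (ih fun Δ hΔ => h Δ (Multiset.mem_cons_of_mem hΔ))

/-- Computation sequences reach the fundamental cycle. -/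
theorem compSeq_induction {r : ℕ} (C : Fin r → X.IdealSheafData) (hC : Function.Injective C)
    (hCi : ∀ i, IsIntegral (C i).subscheme) (hCd : ∀ i, topologicalKrullDim ((C i).support : Set X) = 1)
    (m₀ : Multiset X.IdealSheafData) (hm : ∀ Γ ∈ m₀, IsCurve Γ) (hsub : ∀ Γ ∈ m₀, ∃ i, Γ = C i)
    (hanti : ∀ i, SurfInt.pair k (ClSub.idealMod (C i)) (ClSub.idealMod m₀.prod) ≤ 0)
    (hmin : ∀ Z : X.IdealSheafData, BlowUp.IsEffCartierIdeal Z → Z ≠ ⊤ →
      (Z.support : Set X) ⊆ ⋃ i, ((C i).support : Set X) →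
      (∀ i, SurfInt.pair k (ClSub.idealMod (C i)) (ClSub.idealMod Z) ≤ 0) → Z ≤ m₀.prod)
    (P : Multiset X.IdealSheafData → Prop) (i₀ : Fin r) (hi₀ : C i₀ ∈ m₀) (hstart : P {C i₀})
    (hstep : ∀ m ≤ m₀, m ≠ 0 → P m → ∀ i, 0 < SurfInt.pair k (ClSub.idealMod (C i)) (ClSub.idealMod m.prod) →
      P (C i ::ₘ m)) : P m₀ := by
  classical
  obtain ⟨A, hA⟩ := exists_ample k hdim
  haveI := CurveCohLib.isNoetherian_of_proper (k := k) (X := X)
  suffices ∀ q m : Multiset X.IdealSheafData, m + q = m₀ → m ≠ 0 → P m → P m₀ from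
    this (m₀.erase (C i₀)) {C i₀} (by rw [Multiset.singleton_add, Multiset.cons_erase hi₀])
      (Multiset.singleton_ne_zero _) hstart
  intro q
  induction q using Multiset.strongInductionOn with
  | ih q ih =>
    intro m hmq hne hP
    subst hmq
    have hm1 : ∀ Γ ∈ m, IsCurve Γ := fun Γ hΓ => hm Γ (Multiset.mem_add.2 (Or.inl hΓ))
    have hq1 : ∀ Γ ∈ q, IsCurve Γ := fun Γ hΓ => hm Γ (Multiset.mem_add.2 (Or.inr hΓ))
    have hm2 : ∀ Γ ∈ m, ∃ i, Γ = C i := fun Γ hΓ => hsub Γ (Multiset.mem_add.2 (Or.inl hΓ))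
    have hmc := isEffCartier_prod k hdim m hm1
    by_cases hex : ∃ i, 0 < SurfInt.pair k (ClSub.idealMod (C i)) (ClSub.idealMod m.prod)
    · obtain ⟨i, hi⟩ := hex
      have hiq : C i ∈ q := by
        by_contra hiq
        have h1 := pair_prod_nonneg k hdim C hC hCi hCd i q hq1
          (fun Γ hΓ => hsub Γ (Multiset.mem_add.2 (Or.inr hΓ))) hiq
        have h2 := hanti i
        rw [Multiset.prod_add, SurfInt.pair_comm k, pair_idealMod_mul k hdim hmc (isEffCartier_prod k hdim q hq1)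
          (isInvertible_curve k hdim C hCi hCd i), SurfInt.pair_comm k (ClSub.idealMod m.prod),
          SurfInt.pair_comm k (ClSub.idealMod q.prod)] at h2
        omega
      refine ih _ (Multiset.erase_lt.2 hiq) (C i ::ₘ m) ?_ (Multiset.cons_ne_zero)
        (hstep m (Multiset.le_add_right m q) hne hP i hi)
      conv_rhs => rw [← Multiset.cons_erase hiq]
      rw [Multiset.cons_add, Multiset.add_cons]
    · push Not at hex
      have hle := hmin m.prod hmc (prod_ne_top k hdim hA m hm1 hne)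
        (support_prod_subset k hdim C m hm2) hex
      have heq : m.prod = (m + q).prod := le_antisymm hle (by
        rw [Multiset.prod_add, mul_comm]; exact mul_le_right' _ _)
      have hq0 : q = 0 := by
        by_contra hq0
        refine prod_ne_top k hdim hA q hq1 hq0 ?_
        refine ModPairLib.eq_of_mul_eq_mul hmc ?_
        rw [mul_comm, ← Multiset.prod_add, ← heq]
        exact (one_mul _).symm
      rwa [hq0, add_zero]

variable [IsAlgClosed k]

/-- The data of a fundamental cycle, as a sum of curves. -/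
structure IsFundamental {r : ℕ} (C : Fin r → X.IdealSheafData) (m₀ : Multiset X.IdealSheafData) : Prop where
  inj : Function.Injective C
  integral : ∀ i, IsIntegral (C i).subscheme
  dim : ∀ i, topologicalKrullDim ((C i).support : Set X) = 1
  curves : ∀ Γ ∈ m₀, IsCurve Γ
  sub : ∀ Γ ∈ m₀, ∃ i, Γ = C i
  ne_zero : m₀ ≠ 0
  anti : ∀ i, SurfInt.pair k (ClSub.idealMod (C i)) (ClSub.idealMod m₀.prod) ≤ 0
  min : ∀ Z : X.IdealSheafData, BlowUp.IsEffCartierIdeal Z → Z ≠ ⊤ →
    (Z.support : Set X) ⊆ ⋃ i, ((C i).support : Set X) →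
    (∀ i, SurfInt.pair k (ClSub.idealMod (C i)) (ClSub.idealMod Z) ≤ 0) → Z ≤ m₀.prod
  conn : ∀ S : Finset (Fin r), S.Nonempty → Sᶜ.Nonempty →
    ∃ i ∈ S, ∃ j ∈ Sᶜ, SurfInt.pair k (ClSub.idealMod (C i)) (ClSub.idealMod (C j)) ≠ 0

variable {r : ℕ} {C : Fin r → X.IdealSheafData} {m₀ : Multiset X.IdealSheafData}

/-- Every curve occurs in the fundamental cycle. -/
theorem mem_of_fundamental (h : IsFundamental k C m₀) (i : Fin r) : C i ∈ m₀ := by
  classical
  haveI := CurveCohLib.isNoetherian_of_proper (k := k) (X := X)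
  by_contra hi
  obtain ⟨Γ, hΓ⟩ := Multiset.exists_mem_of_ne_zero h.ne_zero
  obtain ⟨l, rfl⟩ := h.sub Γ hΓ
  obtain ⟨a, ha, b, hb, hab⟩ := h.conn (Finset.univ.filter fun i => C i ∈ m₀) ⟨l, by simp [hΓ]⟩
    ⟨i, by simp [hi]⟩
  simp only [Finset.mem_compl, Finset.mem_filter, Finset.mem_univ, true_and] at ha hb
  have hne : a ≠ b := fun e => hb (e ▸ ha)
  have h1 := pair_curve_nonneg k hdim C h.integral h.dim h.inj a b hne
  have hrest : ∀ Γ ∈ m₀.erase (C a), IsCurve Γ := fun Γ hΓ => h.curves Γ (Multiset.mem_of_mem_erase hΓ)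
  have h2 := pair_prod_nonneg k hdim C h.inj h.integral h.dim b (m₀.erase (C a)) hrest
    (fun Γ hΓ => h.sub Γ (Multiset.mem_of_mem_erase hΓ)) fun hh => hb (Multiset.mem_of_mem_erase hh)
  have h3 := h.anti b
  haveI := h.integral a
  rw [← Multiset.prod_erase ha, SurfInt.pair_comm k, pair_idealMod_mul k hdim
    (isEffCartier_of_curve k hdim (C a) (h.dim a)) (isEffCartier_prod k hdim _ hrest)
    (isInvertible_curve k hdim C h.integral h.dim b)] at h3
  rw [SurfInt.pair_comm k (ClSub.idealMod (C b))] at h2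
  omega

/-- The Euler characteristic along computation sequences, and the vanishing it forces. -/
theorem fundamental_key (h : IsFundamental k C m₀) :
    Curv2.euler k X (ClSub.quotMod m₀.prod) ≤ 1 ∧ (1 ≤ Curv2.euler k X (ClSub.quotMod m₀.prod) →
      ∀ B : X.Modules, PicF.IsInvertible B → (∀ i, SurfInt.pair k (ClSub.idealMod (C i)) B ≤ 0) →
        Subsingleton (Coh.HH X (CohB1.tensorMod (ClSub.quotMod m₀.prod) B) 1)) := by
  haveI := CurveCohLib.isNoetherian_of_proper (k := k) (X := X)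
  obtain ⟨Γ₀, hΓ₀⟩ := Multiset.exists_mem_of_ne_zero h.ne_zero
  obtain ⟨i₀, rfl⟩ := h.sub Γ₀ hΓ₀
  have hC : ∀ i, IsCurve (C i) := fun i => ⟨h.integral i, h.dim i⟩
  have hI := isInvertible_curve k hdim C h.integral h.dim
  refine compSeq_induction k hdim C h.inj h.integral h.dim m₀ h.curves h.sub h.anti h.min
    (fun m => Curv2.euler k X (ClSub.quotMod m.prod) ≤ 1 ∧ (1 ≤ Curv2.euler k X (ClSub.quotMod m.prod) →
      ∀ B : X.Modules, PicF.IsInvertible B → (∀ i, SurfInt.pair k (ClSub.idealMod (C i)) B ≤ 0) →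
        Subsingleton (Coh.HH X (CohB1.tensorMod (ClSub.quotMod m.prod) B) 1))) i₀ hΓ₀ ?_ ?_
  · rw [Multiset.prod_singleton]
    refine ⟨euler_curve_le_one k hdim (hC i₀), fun hχ B hB hdeg => ?_⟩
    have h1 := hdeg i₀
    rw [SurfInt.pair_ideal_left k _ hB] at h1
    exact subsingleton_h1_curve_tensor k hdim (hC i₀) hχ hB (by omega)
  · rintro m hle hne ⟨hm1, hm2⟩ i hi
    haveI := h.integral i
    have hΓc := isEffCartier_of_curve k hdim (C i) (h.dim i)
    have hE := isEffCartier_prod k hdim m fun Γ hΓ => h.curves Γ (Multiset.mem_of_le hle hΓ)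
    have hEi := SurfInt.isInvertible_idealMod hE
    have hΓ1 := euler_curve_le_one k hdim (hC i)
    rw [Multiset.prod_cons]
    have hadd := euler_quotMod_mul k hdim hΓc hE
    refine ⟨by omega, fun hχ B hB hdeg => ?_⟩
    obtain ⟨S, hS, ⟨e₁⟩, ⟨e₂⟩, ⟨e₃⟩⟩ := exists_compSeq hΓc hE
    haveI := AmpleVan.isEquivalence_tw hB
    have hT : (S.map (AmpleVan.tw B)).ShortExact := hS.map_of_exact _
    refine QCoh.subsingleton_HH_of_iso (SurfInt.tMapL e₂ B) 1 (subsingleton_h1_middle k hT ?_ ?_)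
    · refine QCoh.subsingleton_HH_of_iso (SurfInt.tMapL e₁ B ≪≫ SurfInt.tAssoc _ _ _).symm 1 ?_
      have hEB := InvX.isInvertible_tensorMod hEi hB
      have h1 := SurfInt.pair_tensor_right k (dim_le_two hdim) (hI i) hEi hB
      rw [SurfInt.pair_ideal_left k _ hEB] at h1
      have h2 := hdeg i
      exact subsingleton_h1_curve_tensor k hdim (hC i) (by omega) hEB (by omega)
    · exact QCoh.subsingleton_HH_of_iso (SurfInt.tMapL e₃ B).symm 1 (hm2 (by omega) B hB hdeg)

/-- All divisors on a configuration with `χ = 1` on its fundamental cycle are without `H¹`. -/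
theorem subsingleton_h1_supported (h : IsFundamental k C m₀)
    (hχ : 1 ≤ Curv2.euler k X (ClSub.quotMod m₀.prod)) (n : Multiset X.IdealSheafData)
    (hn : ∀ Γ ∈ n, IsCurve Γ) (hns : ∀ Γ ∈ n, ∃ i, Γ = C i) :
    Subsingleton (Coh.HH X (ClSub.quotMod n.prod) 1) := by
  classical
  haveI := CurveCohLib.isNoetherian_of_proper (k := k) (X := X)
  have hI := isInvertible_curve k hdim C h.integral h.dim
  have hcurves : ∀ M : ℕ, ∀ Γ ∈ M • m₀, IsCurve Γ := fun M Γ hΓ => h.curves Γ (Multiset.mem_of_mem_nsmul hΓ)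
  have key := (fundamental_key k hdim h).2 hχ
  have hZ := isEffCartier_prod k hdim m₀ h.curves
  have hpow : ∀ M : ℕ, Subsingleton (Coh.HH X (ClSub.quotMod ((M + 1) • m₀).prod) 1) := by
    intro M
    induction M with
    | zero =>
      rw [zero_add, one_nsmul]
      refine QCoh.subsingleton_HH_of_iso (SurfInt.tUnit _) 1
        (key _ InvX.isInvertible_structureModule fun i => ?_)
      rw [SurfInt.pair_O_right]
    | succ M ih =>
      rw [succ_nsmul, Multiset.prod_add, mul_comm]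
      have hP := isEffCartier_prod k hdim _ (hcurves (M + 1))
      obtain ⟨S, hS, ⟨e₁⟩, ⟨e₂⟩, ⟨e₃⟩⟩ := exists_compSeq hZ hP
      refine QCoh.subsingleton_HH_of_iso e₂ 1 (subsingleton_h1_middle k hS
        (QCoh.subsingleton_HH_of_iso e₁.symm 1 (key _ (SurfInt.isInvertible_idealMod hP) fun i => ?_))
        (QCoh.subsingleton_HH_of_iso e₃.symm 1 ih))
      have h1 := h.anti i
      rw [SurfInt.pair_comm k, pair_prod k hdim _ h.curves (hI i)] at h1
      rw [SurfInt.pair_comm k, pair_prod k hdim _ (hcurves (M + 1)) (hI i), Multiset.map_nsmul,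
        Multiset.sum_nsmul, nsmul_eq_mul]
      exact mul_nonpos_of_nonneg_of_nonpos (Int.natCast_nonneg _) h1
  have hle : n ≤ (n.card + 1) • m₀ := Multiset.le_iff_count.2 fun Γ => by
    rw [Multiset.count_nsmul]
    rcases Nat.eq_zero_or_pos (n.count Γ) with h0 | hpos
    · omega
    · obtain ⟨i, rfl⟩ := hns Γ (Multiset.count_pos.1 hpos)
      have h1 := Multiset.one_le_count_iff_mem.2 (mem_of_fundamental k hdim h i)
      exact ((Multiset.count_le_card _ _).trans (Nat.le_succ _)).trans (Nat.le_mul_of_pos_right _ h1)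
  obtain ⟨q, hq⟩ := Multiset.le_iff_exists_add.1 hle
  refine subsingleton_h1_of_mul k hdim (J := q.prod)
    (isEffCartier_prod k hdim q fun Γ hΓ => hcurves (n.card + 1) Γ (hq ▸ Multiset.mem_add.2 (Or.inr hΓ)))
    (isEffCartier_prod k hdim n hn) ?_
  rw [mul_comm, ← Multiset.prod_add, ← hq]
  exact hpow n.card

omit [IsAlgClosed k] in
/-- A fundamental cycle given as an ideal is a sum of curves. -/
theorem exists_fundamental [IsAlgClosed k] {r : ℕ} (C : Fin r → X.IdealSheafData) (hC : Function.Injective C)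
    (hCi : ∀ i, IsIntegral (C i).subscheme) (hCd : ∀ i, topologicalKrullDim ((C i).support : Set X) = 1)
    (hconn : ∀ S : Finset (Fin r), S.Nonempty → Sᶜ.Nonempty →
      ∃ i ∈ S, ∃ j ∈ Sᶜ, FGA.intNum k X 2 ![(ClSub.idealMod (C i)), (ClSub.idealMod (C j))] (Coh.structureModule X) ≠ 0)
    (Z₀ : X.IdealSheafData) (hZ₀ : FGA.IsEffCartier Z₀) (hZ₀0 : Z₀ ≠ ⊤)
    (hZ₀s : (Z₀.support : Set X) ⊆ ⋃ i, ((C i).support : Set X))
    (hZ₀C : ∀ i, 0 ≤ Curv2.euler k X (CohB1.tensorMod (ClSub.quotMod (C i)) (ClSub.idealMod Z₀)) -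
      Curv2.euler k X (ClSub.quotMod (C i)))
    (hZ₀min : ∀ Z : X.IdealSheafData, FGA.IsEffCartier Z → Z ≠ ⊤ → (Z.support : Set X) ⊆ ⋃ i, ((C i).support : Set X) →
      (∀ i, 0 ≤ Curv2.euler k X (CohB1.tensorMod (ClSub.quotMod (C i)) (ClSub.idealMod Z)) -
        Curv2.euler k X (ClSub.quotMod (C i))) → Z ≤ Z₀) :
    ∃ m₀ : Multiset X.IdealSheafData, m₀.prod = Z₀ ∧ IsFundamental k C m₀ := by
  haveI := CurveCohLib.isNoetherian_of_proper (k := k) (X := X)
  obtain ⟨m, hm, hsub, rfl⟩ := exists_multiset_of_support k hdim C hCi hCd hZ₀ hZ₀s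
  have hI := isInvertible_curve k hdim C hCi hCd
  refine ⟨m, rfl, hC, hCi, hCd, hm, hsub, multiset_ne_zero k hdim hZ₀0, fun i => ?_,
    fun Z hZ hne hs hp => hZ₀min Z hZ hne hs fun i => ?_, fun S h1 h2 => ?_⟩
  · rw [SurfInt.pair_ideal_left k _ (SurfInt.isInvertible_idealMod hZ₀)]
    have := hZ₀C i
    unfold SurfInt.curveDeg
    omega
  · have := hp i
    rw [SurfInt.pair_ideal_left k _ (SurfInt.isInvertible_idealMod hZ)] at this
    unfold SurfInt.curveDeg at this
    omega
  · obtain ⟨i, hi, j, hj, h⟩ := hconn S h1 h2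
    exact ⟨i, hi, j, hj, by rwa [intNum_eq k hdim (hI i) (hI j)] at h⟩

/-- `χ = h⁰ - h¹` for invertible modules restricted to a divisor. -/
theorem euler_quotMod_tensor_eq {D : X.IdealSheafData} (hD : BlowUp.IsEffCartierIdeal D) {B : X.Modules}
    (hB : PicF.IsInvertible B) :
    Curv2.euler k X (CohB1.tensorMod (ClSub.quotMod D) B) =
      (Module.finrank k (Coh.HH X (CohB1.tensorMod (ClSub.quotMod D) B) 0) : ℤ) -
        Module.finrank k (Coh.HH X (CohB1.tensorMod (ClSub.quotMod D) B) 1) := by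
  rw [Euler.euler_eq_sum k _ 2 fun i hi => subsingleton_HH_quotMod_tensor k hdim hD hB hi,
    Finset.sum_range_succ, Finset.sum_range_one]
  simp
  ring

end Groth.Agent.NumSurf32
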