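import Groth.Agent.NumSurf32.Cones

/-!
# Intersection matrices of finitely many curves, without passing to numerical classes
-/

set_option autoImplicit false
set_option linter.style.haveILetI false
set_option linter.unusedSectionVars false
set_option backward.isDefEq.respectTransparency false

universe u

open CategoryTheory CategoryTheory.Limits AlgebraicGeometry TopologicalSpace Opposite

noncomputable section

namespace Groth.Agent.NumSurf32

open Groth.Agent

variable {X : Scheme.{u}} (k : Type u) [Field k] [X.Over (Spec (CommRingCat.of k))]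
  [IsProper (X ↘ Spec (CommRingCat.of k))] [IsIntegral X] [Smooth (X ↘ Spec (CommRingCat.of k))]
  (hdim : topologicalKrullDim X = 2)

include k hdim

theorem isEffCartier_of_curve (C : X.IdealSheafData) [IsIntegral C.subscheme]
    (hC : topologicalKrullDim (C.support : Set X) = 1) : BlowUp.IsEffCartierIdeal C :=
  haveI := CurveCohLib.isNoetherian_of_proper (k := k) (X := X)
  SurfInt.isEffCartier_curve k hdim
    (fun x => GrpSchLib.isRegularLocalRing_stalk_of_smooth (X ↘ Spec (CommRingCat.of k)) x) C hC

theorem intNum_eq {L M : X.Modules} (hL : PicF.IsInvertible L) (hM : PicF.IsInvertible M) :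
    FGA.intNum k X 2 ![L, M] (Coh.structureModule X) = SurfInt.pair k L M :=
  SurfInt.intNum_eq_pair k (dim_le_two hdim) hL hM

variable {r : ℕ} (C : Fin r → X.IdealSheafData) (hCi : ∀ i, IsIntegral (C i).subscheme)
  (hCd : ∀ i, topologicalKrullDim ((C i).support : Set X) = 1)
include hCi hCd

theorem isInvertible_curve (i : Fin r) : PicF.IsInvertible (ClSub.idealMod (C i)) :=
  haveI := hCi i
  haveI := CurveCohLib.isNoetherian_of_proper (k := k) (X := X)
  SurfInt.isInvertible_idealMod (isEffCartier_of_curve k hdim (C i) (hCd i))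

/-- Distinct curves meet nonnegatively. -/
theorem pair_curve_nonneg (hC : Function.Injective C) (i j : Fin r) (hij : i ≠ j) :
    0 ≤ SurfInt.pair k (ClSub.idealMod (C i)) (ClSub.idealMod (C j)) := by
  haveI := CurveCohLib.isNoetherian_of_proper (k := k) (X := X)
  haveI := hCi i; haveI := hCi j
  rw [SurfInt.pair_ideal_left k _ (isInvertible_curve k hdim C hCi hCd j)]
  have := SurfInt.curveDeg_idealMod_nonpos k (isEffCartier_of_curve k hdim (C i) (hCd i)) (hCd i)
    (isEffCartier_of_curve k hdim (C j) (hCd j))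
    (fun hsub => hij (hC (eq_of_support_subset (k := k) (hCd i) (hCd j) hsub)))
  omega

omit hCi in
/-- An ample module meets every curve positively. -/
theorem pair_curve_ample_neg {A : X.Modules} (hA : CohB1.IsAmple A) (i : Fin r) :
    SurfInt.pair k (ClSub.idealMod (C i)) A < 0 := by
  haveI := CurveCohLib.isNoetherian_of_proper (k := k) (X := X)
  rw [SurfInt.pair_ideal_left k _ hA.1]
  have := (curveDeg_ample k hA (C i) (hCd i).le).2 (hCd i)
  omega

/-- Negative definiteness modulo numerical equivalence is negative definiteness. -/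
theorem gram_negDef {A : X.Modules} (hA : CohB1.IsAmple A) (hC : Function.Injective C)
    (hneg : ∀ a : Fin r → ℤ,
      (∃ M : X.Modules, PicF.IsInvertible M ∧ ∑ i, a i * SurfInt.pair k (ClSub.idealMod (C i)) M ≠ 0) →
      ∑ i, ∑ j, a i * a j * SurfInt.pair k (ClSub.idealMod (C i)) (ClSub.idealMod (C j)) < 0) :
    ∀ a : Fin r → ℤ, a ≠ 0 →
      ∑ i, ∑ j, a i * a j * SurfInt.pair k (ClSub.idealMod (C i)) (ClSub.idealMod (C j)) < 0 := by
  intro a ha
  by_cases hM : ∃ M : X.Modules, PicF.IsInvertible M ∧ ∑ i, a i * SurfInt.pair k (ClSub.idealMod (C i)) M ≠ 0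
  · exact hneg a hM
  push Not at hM
  refine absurd ?_ ha
  -- the negative part of a numerically trivial combination vanishes
  have key : ∀ b : Fin r → ℤ, (∀ M : X.Modules, PicF.IsInvertible M →
      ∑ i, b i * SurfInt.pair k (ClSub.idealMod (C i)) M = 0) → ∀ i, b i ≤ 0 := by
    intro b hb
    by_contra hcon
    push Not at hcon
    obtain ⟨i₀, hi₀⟩ := hcon
    let p : Fin r → ℤ := fun i => max (b i) 0
    have hp : ∀ i, 0 ≤ p i := fun i => le_max_right _ _
    have hneq : ∑ i, p i * SurfInt.pair k (ClSub.idealMod (C i)) A < 0 := by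
      refine Finset.sum_neg' (fun i _ => mul_nonpos_of_nonneg_of_nonpos (hp i) (pair_curve_ample_neg k hdim C hCd hA i).le)
        ⟨i₀, Finset.mem_univ _, mul_neg_of_pos_of_neg (lt_max_of_lt_left hi₀) (pair_curve_ample_neg k hdim C hCd hA i₀)⟩
    have h1 := hneg p ⟨A, hA.1, hneq.ne⟩
    have h2 : ∑ i, ∑ j, b i * p j * SurfInt.pair k (ClSub.idealMod (C i)) (ClSub.idealMod (C j)) = 0 := by
      rw [Finset.sum_comm]
      refine Finset.sum_eq_zero fun j _ => ?_
      rw [show (0 : ℤ) = p j * ∑ i, b i * SurfInt.pair k (ClSub.idealMod (C i)) (ClSub.idealMod (C j)) by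
        rw [hb _ (isInvertible_curve k hdim C hCi hCd j), mul_zero], Finset.mul_sum]
      exact Finset.sum_congr rfl fun i _ => by ring
    have h3 : 0 ≤ ∑ i, ∑ j, (p i - b i) * p j * SurfInt.pair k (ClSub.idealMod (C i)) (ClSub.idealMod (C j)) := by
      refine Finset.sum_nonneg fun i _ => Finset.sum_nonneg fun j _ => ?_
      rcases eq_or_ne i j with rfl | hij
      · rcases le_total 0 (b i) with h | h <;> simp [p, h]
      · exact mul_nonneg (mul_nonneg (sub_nonneg.2 (le_max_left _ _)) (hp j)) (pair_curve_nonneg k hdim C hCi hCd hC i j hij)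
    simp only [sub_mul, Finset.sum_sub_distrib] at h3
    linarith
  funext i
  have h1 := key a hM i
  have h2 := key (-a) (fun M hMi => by simp [hM M hMi]) i
  simp only [Pi.neg_apply] at h2
  simp only [Pi.zero_apply]
  omega

/-- `G a ≤ 0` forces `a ≥ 0` for a negative definite configuration. -/
theorem coeff_nonneg (hC : Function.Injective C)
    (hneg : ∀ a : Fin r → ℤ, a ≠ 0 →
      ∑ i, ∑ j, a i * a j * SurfInt.pair k (ClSub.idealMod (C i)) (ClSub.idealMod (C j)) < 0)
    {s : Fin r → ℤ} (hs : ∀ j, ∑ i, s i * SurfInt.pair k (ClSub.idealMod (C i)) (ClSub.idealMod (C j)) ≤ 0) :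
    ∀ i, 0 ≤ s i := by
  intro i
  have h := NumCone.nonneg_of_negDef
    (fun i j => (SurfInt.pair k (ClSub.idealMod (C i)) (ClSub.idealMod (C j)) : ℝ))
    (fun i j hij => by exact_mod_cast pair_curve_nonneg k hdim C hCi hCd hC i j hij)
    (fun c hc => NumCone.negDef_real _ (fun i j => SurfInt.pair_comm k _ _) hneg hc)
    (a := fun i => (s i : ℝ)) (fun j => by exact_mod_cast hs j) i
  exact_mod_cast h

end Groth.Agent.NumSurf32
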