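import Groth.Agent.SurfInt.RRDual
import Groth.Agent.Dual3Lib.GorLpull
import Groth.Agent.LC.GorHull

/-! # Schemes over fields are flat -/

set_option autoImplicit false

universe u

open AlgebraicGeometry CategoryTheory

namespace Groth.Agent.NumSurf32

theorem flat_over_field {k : Type u} [Field k] {X : Scheme.{u}} (f : X ⟶ Spec (CommRingCat.of k)) : Flat f := by
  infer_instance

end Groth.Agent.NumSurf32
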