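import Groth.Agent.NumSurf32.Effective
import Groth.Agent.SurfInt.Nef

/-!
# The Nakai criterion for invertible modules, without a finiteness hypothesis on `N¹`
-/

set_option autoImplicit false
set_option linter.style.haveILetI false
set_option linter.unusedSectionVars false
set_option backward.isDefEq.respectTransparency false

universe u

open CategoryTheory CategoryTheory.Limits AlgebraicGeometry TopologicalSpace Opposite

noncomputable section

namespace Groth.Agent.NumSurf32

open Groth.Agent

variable {X : Scheme.{u}} (k : Type u) [Field k] [X.Over (Spec (CommRingCat.of k))]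
  [IsProper (X ↘ Spec (CommRingCat.of k))] [IsIntegral X] [Smooth (X ↘ Spec (CommRingCat.of k))]
  [PicGrp.Law X] (hdim : topologicalKrullDim X = 2)

include k hdim in
/-- Positive square and positive degree on every curve give ampleness. -/
theorem nakai {L : X.Modules} (hL : PicF.IsInvertible L) (hLL : 0 < SurfInt.pair k L L)
    (hLC : ∀ C : X.IdealSheafData, IsIntegral C.subscheme → topologicalKrullDim (C.support : Set X) = 1 →
      ∀ hC : PicF.IsInvertible (ClSub.idealMod C), SurfInt.pair k (ClSub.idealMod C) L < 0) :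
    CohB1.IsAmple L := by
  haveI := CurveCohLib.isNoetherian_of_proper (k := k) (X := X)
  have h2 := dim_le_two (X := X) hdim
  have hgrow : ∀ b : ℤ, ∃ N, ∀ n, N ≤ n → b ≤ Curv2.euler k X (CohB1.tensorPow L n) := by
    refine VarBase.growth_of_mult_pos k hL two_pos h2 ?_
    have hh := IntNum47.intNum_eq k h2 (M := ![L, L]) (by simp [hL]) (QCoh.isCoh_structureModule' (X := X))
    rw [SurfInt.intNum_eq_pair k h2 hL hL] at hh
    rw [hh] at hLL
    simpa [HilbPoly.mult, HilbPoly.lead, List.ofFn_succ, List.replicate_succ] using hLL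
  refine VarBase.isAmple_of_growth k hL (fun W j hj hW hr => ?_) hgrow
  haveI := hj
  haveI := hW
  letI : W.Over (Spec (CommRingCat.of k)) := ⟨j ≫ (X ↘ Spec (CommRingCat.of k))⟩
  haveI : IsProper (W ↘ Spec (CommRingCat.of k)) := SurfInt.isProper_over_of_closedImmersion k j rfl
  haveI := CurveCohLib.isNoetherian_of_proper (k := k) (X := W)
  have hlt : topologicalKrullDim W < ((2 : ℕ) : WithBot ℕ∞) := by
    have h3 := H23.TopDim.dim_lt_of_ssubset (X := ↥X)
      (by rw [hdim]; exact WithBot.coe_injective.ne (a₁ := ((2 : ℕ) : ℕ∞)) (a₂ := ⊤) (ENat.natCast_ne_top 2))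
      j.isClosedEmbedding.isClosed_range hr
    rwa [VarBase.dim_range (X := X) j, hdim] at h3
  have hLW := PicClLib.isInvertible_pullback j hL
  obtain ⟨m, hm⟩ : ∃ m : ℕ, topologicalKrullDim W = (m : WithBot ℕ∞) := by
    rw [VarDim.topologicalKrullDim_eq_deg_genericPoint (W ↘ Spec (CommRingCat.of k))]
    exact ⟨_, rfl⟩
  rw [hm, Nat.cast_lt] at hlt
  interval_cases m
  · exact VarBase.isAmple_of_dim_le_zero k hm.le hLW
  · rw [Nat.cast_one] at hm
    rw [VarBase.isAmple_iff_deg_pos k hm hLW]
    have hI := isInvertible_idealMod_ker (k := k) hdim j hm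
    have hp := hLC j.ker (SurfInt.isIntegral_ker j) ((SurfInt.dim_support_ker j).trans hm) hI
    have hd := curveDeg_eq_neg_pair (k := k) hdim j hm hL
    have he : Pic13.curveDeg k (j ≫ (X ↘ Spec (CommRingCat.of k))) ((Scheme.Modules.pullback j).obj L) =
        Curv2.deg k W ((Scheme.Modules.pullback j).obj L) 1 :=
      ArSurfBase.curveDeg_eq_deg (Y := W) hm.le (AmpleVan.isCoh_invertible hLW).1
    omega

end Groth.Agent.NumSurf32
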