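import Groth.Agent.NumSurf32.Fundamental
import Groth.Agent.Lib.CurveSpecial
import Groth.Agent.RPSM.Compact
import Groth.Agent.DevK.Twist
import Groth.Agent.H23.InvStalk
import Groth.Agent.AmpleVan.ThickPush

/-!
# Sections on numerically connected divisors
-/

set_option autoImplicit false
set_option linter.style.haveILetI false
set_option linter.unusedSectionVars false
set_option linter.unusedVariables false
set_option backward.isDefEq.respectTransparency false
set_option backward.isDefEq.respectTransparency.types false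

universe u

open CategoryTheory CategoryTheory.Limits AlgebraicGeometry TopologicalSpace Opposite

noncomputable section

namespace Groth.Agent.NumSurf32

open Groth.Agent
open Groth.Agent.PnCoh.Finite (mapLin deltaLin)

variable {X : Scheme.{u}}

/-- The projection `O/I ⊗ L ⟶ O/K ⊗ L`. -/
def qmT (L : X.Modules) {I K : X.IdealSheafData} (h : I ≤ K) :
    CohB1.tensorMod (ClSub.quotMod I) L ⟶ CohB1.tensorMod (ClSub.quotMod K) L :=
  ((AmpleVan.tw L).map (qm h) :)

/-- The projection `O ⊗ L ⟶ O/I ⊗ L`. -/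
def toSubT (L : X.Modules) (I : X.IdealSheafData) :
    CohB1.tensorMod (Coh.structureModule X) L ⟶ CohB1.tensorMod (ClSub.quotMod I) L :=
  ((AmpleVan.tw L).map (ClSub.toSubscheme I) :)

theorem epi_toSubT {L : X.Modules} (hL : PicF.IsInvertible L) (I : X.IdealSheafData) : Epi (toSubT L I) := by
  haveI := AmpleVan.isEquivalence_tw hL
  haveI : Epi (ClSub.toSubscheme I) := (SurfInt.idealSeq_shortExact _).epi_g
  exact inferInstanceAs (Epi ((AmpleVan.tw L).map (ClSub.toSubscheme I)))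

/-- The stalks of `O/I ⊗ L` are cyclic. -/
theorem exists_cyclic_stalk {L : X.Modules} (hL : PicF.IsInvertible L) (I : X.IdealSheafData) (x : X) :
    ∃ q : X.presheaf.stalk x →ₗ[X.presheaf.stalk x]
      ((DerSch.stalkFunctor X x).obj (CohB1.tensorMod (ClSub.quotMod I) L) : Type u), Function.Surjective q := by
  obtain ⟨a⟩ := H23.InvStalk.exists_stalk_equiv hL x
  haveI := epi_toSubT hL I
  refine ⟨((DerSch.stalkFunctor X x).map ((SurfInt.tUnitL L).inv ≫ toSubT L I)).hom.comp a.symm.toLinearMap, ?_⟩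
  intro m
  obtain ⟨l, hl⟩ := (ModuleCat.epi_iff_surjective
    ((DerSch.stalkFunctor X x).map ((SurfInt.tUnitL L).inv ≫ toSubT L I))).1 inferInstance m
  exact ⟨a l, (congrArg _ (a.symm_apply_apply l)).trans hl⟩

theorem qmT_comp (L : X.Modules) {I J K : X.IdealSheafData} (h : I ≤ J) (h' : J ≤ K) :
    qmT L h ≫ qmT L h' = qmT L (h.trans h') :=
  ((AmpleVan.tw L).map_comp (qm h) (qm h')).symm.trans (congrArg (AmpleVan.tw L).map (qm_comp h h'))

theorem epi_qmT {L : X.Modules} (hL : PicF.IsInvertible L) {I K : X.IdealSheafData} (h : I ≤ K) :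
    Epi (qmT L h) := by
  haveI := AmpleVan.isEquivalence_tw hL
  haveI : Epi (ClSub.toSubscheme K) := (SurfInt.idealSeq_shortExact _).epi_g
  haveI : Epi (qm h) := epi_of_epi_fac (toSub_qm h)
  exact inferInstanceAs (Epi ((AmpleVan.tw L).map (qm h)))

theorem isIso_qmT {L : X.Modules} {I : X.IdealSheafData} {K : X.IdealSheafData} (h : I ≤ K) (h' : K ≤ I) :
    IsIso (qmT L h) := by
  haveI : IsIso (qm h) := by
    refine ⟨qm h', ?_, ?_⟩
    · haveI : Epi (ClSub.toSubscheme I) := (SurfInt.idealSeq_shortExact _).epi_g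
      rw [← cancel_epi (ClSub.toSubscheme I), toSub_qm_assoc, toSub_qm, Category.comp_id]
    · haveI : Epi (ClSub.toSubscheme K) := (SurfInt.idealSeq_shortExact _).epi_g
      rw [← cancel_epi (ClSub.toSubscheme K), toSub_qm_assoc, toSub_qm, Category.comp_id]
  exact inferInstanceAs (IsIso ((AmpleVan.tw L).map (qm h)))

/-- A map out of `O_X` into a direct image factors through the closed subscheme. -/
theorem exists_factor (I : X.IdealSheafData) {N : I.subscheme.Modules}
    (ψ : Coh.structureModule X ⟶ (Scheme.Modules.pushforward I.subschemeι).obj N) :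
    ∃ χ : Coh.structureModule I.subscheme ⟶ N,
      ψ = ClSub.toSubscheme I ≫ (Scheme.Modules.pushforward I.subschemeι).map χ := by
  refine ⟨QCoh.homOfTop (show Γ(N, ⊤) from ψ.app ⊤ (H23.Frame.one ⊤)), CurveRR.hom_ext_one ?_⟩
  show _ = (QCoh.homOfTop (show Γ(N, ⊤) from ψ.app ⊤ (H23.Frame.one ⊤))).app ⊤
    ((I.subschemeι.app ⊤).hom (1 : Γ(X, ⊤)))
  rw [map_one]
  refine Eq.symm ?_
  refine (QCoh.homOfTop_app (P := N) _ (W := (⊤ : I.subscheme.Opens)) (1 : Γ(I.subscheme, ⊤))).trans ?_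
  refine (one_smul Γ(I.subscheme, ⊤) _).trans ?_
  exact ConcreteCategory.congr_hom (N.presheaf.map_id _) _

theorem homOfClass_map (k : Type u) [Field k] [X.Over (Spec (CommRingCat.of k))] {M N : X.Modules}
    (f : M ⟶ N) (t : Coh.HH X M 0) :
    CurveSpecial.homOfClass (mapLin k f 0 t) = CurveSpecial.homOfClass t ≫ f := by
  refine CurveRR.hom_ext_one ?_
  rw [CurveSpecial.homOfClass_one]
  show _ = f.app ⊤ ((CurveSpecial.homOfClass t).app ⊤ (H23.Frame.one ⊤))
  rw [CurveSpecial.homOfClass_one]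
  exact (Sheaf.H.equiv₀_naturality isTerminalTop ((QCoh.toAbFunctor X).map f) t).symm

/-- Over a local ring, a map to a cyclic module is onto if it is onto a nonzero quotient. -/
theorem surjective_of_cyclic {R P M N : Type*} [CommRing R] [IsLocalRing R] [AddCommGroup P] [Module R P]
    [AddCommGroup M] [Module R M] [AddCommGroup N] [Module R N] [Nontrivial N] (q : R →ₗ[R] M)
    (hq : Function.Surjective q) (f : P →ₗ[R] M) (g : M →ₗ[R] N) (hg : Function.Surjective g)
    (hfg : Function.Surjective (g ∘ₗ f)) : Function.Surjective f := by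
  have hq1 : ∀ r, q r = r • q 1 := fun r => by rw [← map_smul, smul_eq_mul, mul_one]
  obtain ⟨p, hp⟩ := hfg (g (q 1))
  obtain ⟨a, ha⟩ := hq (f p)
  have h1 : (1 - a) • g (q 1) = 0 := by
    have : g (f p) = g (q 1) := hp
    rw [← ha, hq1 a, map_smul] at this
    rw [sub_smul, one_smul, this, sub_self]
  have hu : IsUnit a := by
    by_contra hau
    obtain ⟨v, hv⟩ := IsLocalRing.isUnit_one_sub_self_of_mem_nonunits a hau
    rw [← hv] at h1
    have h0 : g (q 1) = 0 := (IsUnit.smul_eq_zero ⟨v, rfl⟩).1 h1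
    obtain ⟨n, hn⟩ := exists_ne (0 : N)
    obtain ⟨m, rfl⟩ := hg n
    obtain ⟨r, rfl⟩ := hq m
    exact hn (by rw [hq1 r, map_smul, h0, smul_zero])
  obtain ⟨v, rfl⟩ := hu
  intro m
  obtain ⟨r, rfl⟩ := hq m
  refine ⟨(r * (↑v⁻¹ : R)) • p, ?_⟩
  rw [map_smul, ← ha, hq1 r, hq1 (v : R), smul_smul, mul_assoc, Units.inv_mul, mul_one]

/-- A surjection between invertible modules is an isomorphism. -/
theorem isIso_of_epi_invertible {A B : X.Modules} (hA : PicF.IsInvertible A) (hB : PicF.IsInvertible B)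
    (φ : A ⟶ B) [Epi φ] : IsIso φ := by
  haveI : Mono φ := DevK.mono_of_stalk φ fun x => by
    obtain ⟨a⟩ := H23.InvStalk.exists_stalk_equiv hA x
    obtain ⟨b⟩ := H23.InvStalk.exists_stalk_equiv hB x
    have hs : Function.Surjective ((DerSch.stalkFunctor X x).map φ).hom :=
      (ModuleCat.epi_iff_surjective _).1 inferInstance
    let f := (b.toLinearMap.comp ((DerSch.stalkFunctor X x).map φ).hom).comp a.symm.toLinearMap
    have hf : Function.Injective f := OrzechProperty.injective_of_surjective_endomorphism f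
      (b.surjective.comp (hs.comp a.symm.surjective))
    intro m₁ m₂ h
    exact a.injective (hf (show f (a m₁) = f (a m₂) by simp [f, h]))
  exact isIso_of_mono_of_epi φ

variable (k : Type u) [Field k] [X.Over (Spec (CommRingCat.of k))]
  [IsProper (X ↘ Spec (CommRingCat.of k))] [IsIntegral X] [Smooth (X ↘ Spec (CommRingCat.of k))]
  (hdim : topologicalKrullDim X = 2)

include k hdim

/-- A nonzero map `O_X ⟶ O_Γ ⊗ B` with `B` of degree `≤ 0` on the curve `Γ` is onto, and `B` is trivial there. -/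
theorem curve_hom {Γ : X.IdealSheafData} (hΓ : IsCurve Γ) {B : X.Modules} (hB : PicF.IsInvertible B)
    (hdeg : SurfInt.curveDeg k Γ B ≤ 0) (ψ : Coh.structureModule X ⟶ CohB1.tensorMod (ClSub.quotMod Γ) B)
    (hψ : ψ ≠ 0) : Epi ψ ∧ SurfInt.curveDeg k Γ B = 0 ∧
      Nonempty (CohB1.tensorMod (ClSub.quotMod Γ) B ≅ ClSub.quotMod Γ) := by
  haveI := hΓ.1
  haveI := CurveCohLib.isNoetherian_of_proper (k := k) (X := X)
  let Z := Γ.subscheme
  letI : Z.Over (Spec (CommRingCat.of k)) := ⟨Γ.subschemeι ≫ (X ↘ Spec (CommRingCat.of k))⟩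
  haveI : IsProper (Z ↘ Spec (CommRingCat.of k)) := SurfInt.isProper_over_of_closedImmersion k Γ.subschemeι rfl
  have hd : topologicalKrullDim Z = 1 := by
    rw [← hΓ.2, ← Scheme.IdealSheafData.range_subschemeι]
    exact IsHomeomorph.topologicalKrullDim_eq _ Γ.subschemeι.isEmbedding.toHomeomorph.isHomeomorph
  have hBq := (AmpleVan.isCoh_invertible hB).1
  have hL : PicF.IsInvertible ((Scheme.Modules.pullback Γ.subschemeι).obj B) :=
    PicClLib.isInvertible_pullback Γ.subschemeι hB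
  let e := SurfInt.pushTensorIso Γ.subschemeι B
  obtain ⟨χ, hχ⟩ := exists_factor Γ (ψ ≫ e.hom)
  have hχ0 : χ ≠ 0 := fun h0 => hψ (by
    rw [h0, Functor.map_zero, comp_zero] at hχ
    rwa [← cancel_mono e.hom, zero_comp])
  rw [SurfInt.curveDeg_eq_deg k Γ hBq rfl] at hdeg ⊢
  obtain ⟨h1, h2⟩ := CurveDeg.deg_le_and_isIso k hd.le CurveDeg.isInvertible_structureModule hL χ hχ0
  rw [CurveDeg.deg_structureModule] at h1 h2
  have h0 : Curv2.deg k Γ.subscheme ((Scheme.Modules.pullback Γ.subschemeι).obj B) 1 = 0 :=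
    le_antisymm hdeg h1
  haveI := h2 h0.symm
  refine ⟨?_, h0, ⟨e ≪≫ ((Scheme.Modules.pushforward Γ.subschemeι).mapIso (asIso χ)).symm⟩⟩
  haveI : Epi (ClSub.toSubscheme Γ) := (SurfInt.idealSeq_shortExact Γ).epi_g
  haveI : Epi (ψ ≫ e.hom) := by rw [hχ]; infer_instance
  rw [show ψ = (ψ ≫ e.hom) ≫ e.inv by rw [Category.assoc, Iso.hom_inv_id, Category.comp_id]]
  infer_instance

omit hdim in
theorem prod_le_of_mem {m : Multiset X.IdealSheafData} {Γ : X.IdealSheafData} (h : Γ ∈ m) : m.prod ≤ Γ := by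
  obtain ⟨m', rfl⟩ := Multiset.exists_cons_of_mem h
  rw [Multiset.prod_cons, mul_comm]
  exact mul_le_right' m'.prod Γ

variable [IsAlgClosed k]

/-- Induction along a numerically connected sum of curves. -/
theorem conn_induction {A : X.Modules} (hA : CohB1.IsAmple A) (m₀ : Multiset X.IdealSheafData)
    (hm : ∀ Γ ∈ m₀, IsCurve Γ)
    (hnc : ∀ Z₁ Z₂ : X.IdealSheafData, BlowUp.IsEffCartierIdeal Z₁ → BlowUp.IsEffCartierIdeal Z₂ →
      Z₁ ≠ ⊤ → Z₂ ≠ ⊤ → m₀.prod = Z₁ * Z₂ → 0 < SurfInt.pair k (ClSub.idealMod Z₁) (ClSub.idealMod Z₂))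
    {Γ₀ : X.IdealSheafData} (hΓ₀ : Γ₀ ∈ m₀) (P : Multiset X.IdealSheafData → Prop) (hstart : P {Γ₀})
    (hstep : ∀ m ≤ m₀, Γ₀ ∈ m → P m → ∀ Γ ∈ m₀,
      0 < SurfInt.pair k (ClSub.idealMod Γ) (ClSub.idealMod m.prod) → P (Γ ::ₘ m)) : P m₀ := by
  classical
  suffices ∀ q m : Multiset X.IdealSheafData, m + q = m₀ → Γ₀ ∈ m → P m → P m₀ from
    this (m₀.erase Γ₀) {Γ₀} (by rw [Multiset.singleton_add, Multiset.cons_erase hΓ₀])
      (Multiset.mem_singleton_self _) hstart
  intro q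
  induction q using Multiset.strongInductionOn with
  | ih q ih =>
    intro m hmq hmem hP
    subst hmq
    rcases eq_or_ne q 0 with rfl | hq0
    · rwa [add_zero]
    have hm1 : ∀ Γ ∈ m, IsCurve Γ := fun Γ hΓ => hm Γ (Multiset.mem_add.2 (Or.inl hΓ))
    have hq1 : ∀ Γ ∈ q, IsCurve Γ := fun Γ hΓ => hm Γ (Multiset.mem_add.2 (Or.inr hΓ))
    have hmc := isEffCartier_prod k hdim m hm1
    have hpos := hnc m.prod q.prod hmc (isEffCartier_prod k hdim q hq1)
      (prod_ne_top k hdim hA m hm1 fun h => Multiset.notMem_zero Γ₀ (h ▸ hmem))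
      (prod_ne_top k hdim hA q hq1 hq0) (Multiset.prod_add m q)
    rw [SurfInt.pair_comm k, pair_prod k hdim q hq1 (SurfInt.isInvertible_idealMod hmc)] at hpos
    obtain ⟨Γ, hΓq, hΓ⟩ : ∃ Γ ∈ q, 0 < SurfInt.pair k (ClSub.idealMod Γ) (ClSub.idealMod m.prod) := by
      by_contra hcon
      push Not at hcon
      have h := Multiset.sum_map_le_sum_map _ (fun _ => (0 : ℤ)) hcon
      simp only [Multiset.map_const', Multiset.sum_replicate, smul_zero] at h
      omega
    refine ih _ (Multiset.erase_lt.2 hΓq) (Γ ::ₘ m) ?_ (Multiset.mem_cons_of_mem hmem)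
      (hstep m (Multiset.le_add_right m q) hmem hP Γ (Multiset.mem_add.2 (Or.inr hΓq)) hΓ)
    conv_rhs => rw [← Multiset.cons_erase hΓq]
    rw [Multiset.cons_add, Multiset.add_cons]

/-- On a numerically connected divisor a section vanishing on one curve vanishes. -/
theorem eq_zero_of_comp_qm {A : X.Modules} (hA : CohB1.IsAmple A) (m₀ : Multiset X.IdealSheafData)
    (hm : ∀ Γ ∈ m₀, IsCurve Γ)
    (hnc : ∀ Z₁ Z₂ : X.IdealSheafData, BlowUp.IsEffCartierIdeal Z₁ → BlowUp.IsEffCartierIdeal Z₂ →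
      Z₁ ≠ ⊤ → Z₂ ≠ ⊤ → m₀.prod = Z₁ * Z₂ → 0 < SurfInt.pair k (ClSub.idealMod Z₁) (ClSub.idealMod Z₂))
    {L : X.Modules} (hL : PicF.IsInvertible L) (hdeg : ∀ Γ ∈ m₀, SurfInt.curveDeg k Γ L ≤ 0)
    {Γ₀ : X.IdealSheafData} (hΓ₀ : Γ₀ ∈ m₀) (h : m₀.prod ≤ Γ₀)
    (ψ : Coh.structureModule X ⟶ CohB1.tensorMod (ClSub.quotMod m₀.prod) L)
    (hψ : ψ ≫ qmT L h = 0) : ψ = 0 := by
  haveI := CurveCohLib.isNoetherian_of_proper (k := k) (X := X)
  haveI := AmpleVan.isEquivalence_tw hL
  revert h ψ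
  refine conn_induction k hdim hA m₀ hm hnc hΓ₀
    (fun m => ∀ (h : m.prod ≤ Γ₀) (ψ : Coh.structureModule X ⟶ CohB1.tensorMod (ClSub.quotMod m.prod) L),
      ψ ≫ qmT L h = 0 → ψ = 0) ?_ ?_
  · intro h ψ hψ
    haveI := isIso_qmT (L := L) h (Multiset.prod_singleton Γ₀).ge
    exact zero_of_comp_mono _ hψ
  · intro m hle hmem hP Γ hΓ hpair
    rw [Multiset.prod_cons]
    intro h ψ hψ
    haveI := (hm Γ hΓ).1
    have hΓc := isEffCartier_of_curve k hdim Γ (hm Γ hΓ).2
    have hE := isEffCartier_prod k hdim m fun Δ hΔ => hm Δ (Multiset.mem_of_le hle hΔ)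
    have hEi := SurfInt.isInvertible_idealMod hE
    obtain ⟨j, w, hS⟩ := exists_ker_qm hΓc hE
    have hT := hS.map_of_exact (AmpleVan.tw L)
    have h1 := hP (prod_le_of_mem k hmem) (ψ ≫ qmT L (mul_le_right' Γ m.prod)) (by
      rw [Category.assoc, qmT_comp]
      exact hψ)
    haveI := hT.mono_f
    obtain ⟨ξ, hξ⟩ := KernelFork.IsLimit.lift' hT.fIsKernel ψ h1
    have hξ' : ξ ≫ (AmpleVan.tw L).map j = ψ := hξ
    by_contra hne
    have hξ0 : ξ ≫ (SurfInt.tAssoc (ClSub.quotMod Γ) (ClSub.idealMod m.prod) L).hom ≠ 0 := fun h0 => hne (by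
      rw [← hξ', show ξ = 0 from zero_of_comp_mono _ h0, zero_comp])
    have hEL := InvX.isInvertible_tensorMod hEi hL
    have hlt : SurfInt.curveDeg k Γ (CohB1.tensorMod (ClSub.idealMod m.prod) L) < 0 := by
      have h2 := SurfInt.pair_tensor_right k (dim_le_two hdim) (SurfInt.isInvertible_idealMod hΓc) hEi hL
      rw [SurfInt.pair_ideal_left k _ hEL, SurfInt.pair_ideal_left k _ hL] at h2
      have h3 := hdeg Γ hΓ
      omega
    exact hlt.ne (curve_hom k hdim (hm Γ hΓ) hEL hlt.le _ hξ0).2.1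

/-- A map out of `O_X` onto a twisted numerically connected divisor. -/
theorem epi_of_ne_zero {A : X.Modules} (hA : CohB1.IsAmple A) (m₀ : Multiset X.IdealSheafData)
    (hm : ∀ Γ ∈ m₀, IsCurve Γ)
    (hnc : ∀ Z₁ Z₂ : X.IdealSheafData, BlowUp.IsEffCartierIdeal Z₁ → BlowUp.IsEffCartierIdeal Z₂ →
      Z₁ ≠ ⊤ → Z₂ ≠ ⊤ → m₀.prod = Z₁ * Z₂ → 0 < SurfInt.pair k (ClSub.idealMod Z₁) (ClSub.idealMod Z₂))
    {L : X.Modules} (hL : PicF.IsInvertible L) (hdeg : ∀ Γ ∈ m₀, SurfInt.curveDeg k Γ L ≤ 0)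
    (ψ : Coh.structureModule X ⟶ CohB1.tensorMod (ClSub.quotMod m₀.prod) L) (hψ : ψ ≠ 0) : Epi ψ := by
  haveI := CurveCohLib.isNoetherian_of_proper (k := k) (X := X)
  haveI := AmpleVan.isEquivalence_tw hL
  refine RPSM.epi_of_stalk ψ fun x => (ModuleCat.epi_iff_surjective _).2 ?_
  by_cases hx : x ∈ (m₀.prod.support : Set X)
  · obtain ⟨Γ, hΓ, hxΓ⟩ : ∃ Γ ∈ m₀, x ∈ (Γ.support : Set X) := by
      clear hψ ψ hdeg hnc hm
      induction m₀ using Multiset.induction with
      | empty =>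
        rw [Multiset.prod_zero] at hx
        change x ∈ ((⊤ : X.IdealSheafData).support : Set X) at hx
        rw [Scheme.IdealSheafData.support_top] at hx
        exact absurd hx (Set.notMem_empty x)
      | cons Δ m ih =>
        rw [Multiset.prod_cons, Scheme.IdealSheafData.support_mul] at hx
        rcases hx with hx | hx
        · exact ⟨Δ, Multiset.mem_cons_self _ _, hx⟩
        · obtain ⟨Γ, h1, h2⟩ := ih hx
          exact ⟨Γ, Multiset.mem_cons_of_mem h1, h2⟩
    have hle := prod_le_of_mem k hΓ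
    have hne : ψ ≫ qmT L hle ≠ 0 := fun h0 =>
      hψ (eq_zero_of_comp_qm k hdim hA m₀ hm hnc hL hdeg hΓ hle ψ h0)
    obtain ⟨hepi, -, ⟨e⟩⟩ := curve_hom k hdim (hm Γ hΓ) hL (hdeg Γ hΓ) _ hne
    let Φ := DerSch.stalkFunctor X x
    let M := CohB1.tensorMod (ClSub.quotMod m₀.prod) L
    let N := CohB1.tensorMod (ClSub.quotMod Γ) L
    haveI : Nontrivial (Φ.obj N : Type u) := by
      have h1 : x ∈ CohB1.support (ClSub.quotMod Γ) := by rw [SurfInt.support_quotMod_eq]; exact hxΓ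
      haveI : Nontrivial (Φ.obj (ClSub.quotMod Γ) : Type u) := not_subsingleton_iff_nontrivial.1 h1
      exact (Φ.mapIso e).toLinearEquiv.toEquiv.nontrivial
    obtain ⟨q, hq⟩ := exists_cyclic_stalk hL m₀.prod x
    haveI := epi_qmT hL hle
    refine surjective_of_cyclic (M := (Φ.obj M : Type u)) (N := (Φ.obj N : Type u)) q hq _
      (Φ.map (qmT L hle)).hom ((ModuleCat.epi_iff_surjective _).1 inferInstance) ?_
    haveI := hepi
    have h2 := (ModuleCat.epi_iff_surjective (Φ.map (ψ ≫ qmT L hle))).1 inferInstance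
    rw [Φ.map_comp] at h2
    exact h2
  · have h1 : x ∉ CohB1.support (CohB1.tensorMod L (ClSub.quotMod m₀.prod)) := fun h =>
      hx (SurfInt.support_quotMod_subset' _ (CurveTensor.support_tensor_subset h))
    haveI : Subsingleton ((DerSch.stalkFunctor X x).obj (CohB1.tensorMod L (ClSub.quotMod m₀.prod)) : Type u) :=
      not_not.1 h1
    haveI : Subsingleton ((DerSch.stalkFunctor X x).obj (CohB1.tensorMod (ClSub.quotMod m₀.prod) L) : Type u) :=
      ((DerSch.stalkFunctor X x).mapIso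
        (SurfInt.tComm (ClSub.quotMod m₀.prod) L)).toLinearEquiv.injective.subsingleton
    intro y
    exact ⟨0, @Subsingleton.elim _ this _ _⟩

/-- Sections of a nonpositive module on a numerically connected divisor. -/
theorem h0_numConn {A : X.Modules} (hA : CohB1.IsAmple A) (m₀ : Multiset X.IdealSheafData)
    (hm : ∀ Γ ∈ m₀, IsCurve Γ) (hne : m₀ ≠ 0)
    (hnc : ∀ Z₁ Z₂ : X.IdealSheafData, BlowUp.IsEffCartierIdeal Z₁ → BlowUp.IsEffCartierIdeal Z₂ →
      Z₁ ≠ ⊤ → Z₂ ≠ ⊤ → m₀.prod = Z₁ * Z₂ → 0 < SurfInt.pair k (ClSub.idealMod Z₁) (ClSub.idealMod Z₂))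
    {L : X.Modules} (hL : PicF.IsInvertible L) (hdeg : ∀ Γ ∈ m₀, SurfInt.curveDeg k Γ L ≤ 0) :
    Module.finrank k (Coh.HH X (CohB1.tensorMod (ClSub.quotMod m₀.prod) L) 0) ≤ 1 ∧
      (Module.finrank k (Coh.HH X (CohB1.tensorMod (ClSub.quotMod m₀.prod) L) 0) = 1 →
        Nonempty (CohB1.tensorMod (ClSub.quotMod m₀.prod) L ≅ ClSub.quotMod m₀.prod)) := by
  haveI := CurveCohLib.isNoetherian_of_proper (k := k) (X := X)
  constructor
  · obtain ⟨Γ, hΓ⟩ := Multiset.exists_mem_of_ne_zero hne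
    have hle := prod_le_of_mem k hΓ
    let N := CohB1.tensorMod (ClSub.quotMod Γ) L
    have hinj : Function.Injective (mapLin k (qmT L hle) 0) :=
      (injective_iff_map_eq_zero _).2 fun t ht => by
        by_contra ht0
        refine CurveSpecial.homOfClass_ne_zero ht0
          (eq_zero_of_comp_qm k hdim hA m₀ hm hnc hL hdeg hΓ hle _ ?_)
        rw [← homOfClass_map k, ht]
        refine CurveRR.hom_ext_one ?_
        rw [CurveSpecial.homOfClass_one]
        exact map_zero _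
    have hN : Module.finrank k (Coh.HH X N 0) ≤ 1 := by
      by_cases h0 : ∀ t : Coh.HH X N 0, t = 0
      · haveI := subsingleton_of_forall_eq 0 h0
        rw [Module.finrank_zero_of_subsingleton]
        exact zero_le_one
      · push Not at h0
        obtain ⟨t, ht⟩ := h0
        obtain ⟨-, -, ⟨e⟩⟩ := curve_hom k hdim (hm Γ hΓ) hL (hdeg Γ hΓ) (CurveSpecial.homOfClass t)
          (CurveSpecial.homOfClass_ne_zero ht)
        rw [ArSurfBase.finrank_HH_congr (k := k) e 0, finrank_h0_curve k (hm Γ hΓ)]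
    haveI : Module.Finite k (Coh.HH X N 0) := CurveCohLib.finite_HH (k := k)
      (AmpleVan.isCoh_tensor (ParShLib.isCoh_quotMod Γ) (AmpleVan.isCoh_invertible hL)) 0
    exact (LinearMap.finrank_le_finrank_of_injective hinj).trans hN
  · intro h1
    haveI : Nontrivial (Coh.HH X (CohB1.tensorMod (ClSub.quotMod m₀.prod) L) 0) :=
      Module.nontrivial_of_finrank_pos (R := k) (by omega)
    obtain ⟨t, ht⟩ := exists_ne (0 : Coh.HH X (CohB1.tensorMod (ClSub.quotMod m₀.prod) L) 0)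
    haveI := epi_of_ne_zero k hdim hA m₀ hm hnc hL hdeg _ (CurveSpecial.homOfClass_ne_zero ht)
    let D := m₀.prod
    let e := SurfInt.pushTensorIso D.subschemeι L
    obtain ⟨χ, hχ⟩ := exists_factor D (CurveSpecial.homOfClass t ≫ e.hom)
    haveI : Epi (ClSub.toSubscheme D ≫ (Scheme.Modules.pushforward D.subschemeι).map χ) := by
      rw [← hχ]; infer_instance
    haveI : Epi ((Scheme.Modules.pushforward D.subschemeι).map χ) :=
      epi_of_epi (ClSub.toSubscheme D) _
    haveI := AmpleVan.faithful_push D.subschemeι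
    haveI : Epi χ := (Scheme.Modules.pushforward D.subschemeι).epi_of_epi_map inferInstance
    haveI := isIso_of_epi_invertible CurveDeg.isInvertible_structureModule
      (PicClLib.isInvertible_pullback D.subschemeι hL) χ
    exact ⟨e ≪≫ ((Scheme.Modules.pushforward D.subschemeι).mapIso (asIso χ)).symm⟩

end Groth.Agent.NumSurf32
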