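import Groth.Agent.NumSurf32.Gram
import Groth.Agent.SurfInt.Nef
import Groth.Agent.SurfInt.Degrees
import Mathlib.LinearAlgebra.Matrix.Adjugate

/-!
# A nef and big module orthogonal to exactly the curves of a negative definite configuration
-/

set_option autoImplicit false
set_option linter.style.haveILetI false
set_option linter.unusedSectionVars false
set_option backward.isDefEq.respectTransparency false

universe u

open CategoryTheory CategoryTheory.Limits AlgebraicGeometry TopologicalSpace Opposite

noncomputable section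

namespace Groth.Agent.NumSurf32

open Groth.Agent

variable {X : Scheme.{u}} (k : Type u) [Field k] [X.Over (Spec (CommRingCat.of k))]
  [IsProper (X ↘ Spec (CommRingCat.of k))]

/-- A tensor product of powers, through its pairing. -/
theorem exists_pair_combination (hdim : topologicalKrullDim X ≤ (2 : ℕ)) {ι : Type*} (s : Finset ι)
    (F : ι → X.Modules) (hF : ∀ i ∈ s, PicF.IsInvertible (F i)) (t : ι → ℕ) :
    ∃ M : X.Modules, PicF.IsInvertible M ∧ ∀ B : X.Modules, PicF.IsInvertible B →
      SurfInt.pair k M B = ∑ i ∈ s, (t i : ℤ) * SurfInt.pair k (F i) B := by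
  classical
  induction s using Finset.induction with
  | empty => exact ⟨_, SurfInt.isInvertible_O X, fun B _ => by rw [SurfInt.pair_O_left, Finset.sum_empty]⟩
  | insert i s hi ih =>
    obtain ⟨M, hM, h⟩ := ih fun j hj => hF j (Finset.mem_insert_of_mem hj)
    have hFi := hF i (Finset.mem_insert_self i s)
    refine ⟨CohB1.tensorMod (CohB1.tensorPow (F i) (t i)) M,
      InvX.isInvertible_tensorMod (InvX.isInvertible_tensorPow hFi _) hM, fun B hB => ?_⟩
    rw [SurfInt.pair_tensor_left k hdim (InvX.isInvertible_tensorPow hFi _) hM hB,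
      SurfInt.pair_tensorPow_left k hdim hFi hB, h B hB, Finset.sum_insert hi]

variable [IsIntegral X] [Smooth (X ↘ Spec (CommRingCat.of k))] (hdim : topologicalKrullDim X = 2)
  {r : ℕ} (C : Fin r → X.IdealSheafData) (hC : Function.Injective C) (hCi : ∀ i, IsIntegral (C i).subscheme)
  (hCd : ∀ i, topologicalKrullDim ((C i).support : Set X) = 1)

include k hdim hC hCi hCd in
theorem exists_nef_big_orthogonal {A : X.Modules} (hA : CohB1.IsAmple A)
    (hneg : ∀ a : Fin r → ℤ, a ≠ 0 →
      ∑ i, ∑ j, a i * a j * SurfInt.pair k (ClSub.idealMod (C i)) (ClSub.idealMod (C j)) < 0) :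
    ∃ L : X.Modules, PicF.IsInvertible L ∧
      (∀ D : X.IdealSheafData, IsIntegral D.subscheme → topologicalKrullDim (D.support : Set X) = 1 →
        0 ≤ SurfInt.curveDeg k D L) ∧
      0 < SurfInt.pair k L L ∧
      (∀ D : X.IdealSheafData, IsIntegral D.subscheme → topologicalKrullDim (D.support : Set X) = 1 →
        (SurfInt.curveDeg k D L = 0 ↔ ∃ i, D = C i)) := by
  classical
  haveI := CurveCohLib.isNoetherian_of_proper (k := k) (X := X)
  have h2 := dim_le_two (X := X) hdim
  have hI := isInvertible_curve k hdim C hCi hCd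
  let G : Matrix (Fin r) (Fin r) ℤ := Matrix.of fun i j => SurfInt.pair k (ClSub.idealMod (C i)) (ClSub.idealMod (C j))
  have hdet : G.det ≠ 0 := fun h => by
    obtain ⟨a, ha0, ha⟩ := Matrix.exists_vecMul_eq_zero_iff.2 h
    refine (hneg a ha0).ne ?_
    rw [Finset.sum_comm]
    refine Finset.sum_eq_zero fun j _ => ?_
    have hj : ∑ i, a i * SurfInt.pair k (ClSub.idealMod (C i)) (ClSub.idealMod (C j)) = 0 := by
      simpa [Matrix.vecMul, dotProduct, G] using congrFun ha j
    rw [show (0 : ℤ) = a j * ∑ i, a i * SurfInt.pair k (ClSub.idealMod (C i)) (ClSub.idealMod (C j)) by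
      rw [hj, mul_zero], Finset.mul_sum]
    exact Finset.sum_congr rfl fun i _ => by ring
  let b : Fin r → ℤ := fun j => - SurfInt.pair k (ClSub.idealMod (C j)) A
  have hb : ∀ j, 0 < b j := fun j => neg_pos.2 (pair_curve_ample_neg k hdim C hCd hA j)
  let u := Matrix.vecMul b G.adjugate
  let s : Fin r → ℤ := fun i => - (G.det.sign * u i)
  have hs : ∀ j, ∑ i, s i * SurfInt.pair k (ClSub.idealMod (C i)) (ClSub.idealMod (C j)) = - (G.det.natAbs * b j) := by
    intro j
    have hu : ∑ i, u i * G i j = G.det * b j := by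
      have := congrFun (Matrix.vecMul_vecMul b G.adjugate G) j
      rw [Matrix.adjugate_mul, Matrix.vecMul_smul, Matrix.vecMul_one, Pi.smul_apply, smul_eq_mul] at this
      exact this
    calc ∑ i, s i * SurfInt.pair k (ClSub.idealMod (C i)) (ClSub.idealMod (C j))
        = - G.det.sign * ∑ i, u i * G i j := by
          rw [Finset.mul_sum]; exact Finset.sum_congr rfl fun i _ => by simp only [s, G, Matrix.of_apply]; ring
      _ = _ := by rw [hu, ← mul_assoc, neg_mul, Int.sign_mul_self_eq_abs, ← Int.natCast_natAbs, neg_mul]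
  have hs0 := coeff_nonneg k hdim C hCi hCd hC hneg (s := s) fun j => by
    rw [hs]; have := hb j; have : (0 : ℤ) ≤ G.det.natAbs := Int.natCast_nonneg _; nlinarith
  choose t ht using fun i => Int.eq_ofNat_of_zero_le (hs0 i)
  have hinv := fun i => H23.PicInv.exists_inverse (hI i)
  choose J hJ he using hinv
  obtain ⟨M, hM, hMp⟩ := exists_pair_combination k h2 Finset.univ J (fun i _ => hJ i) t
  set d := G.det.natAbs
  have hd : 0 < d := Int.natAbs_pos.2 hdet
  have hAd := InvX.isInvertible_tensorPow hA.1 d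
  set L := CohB1.tensorMod (CohB1.tensorPow A d) M
  have hL : PicF.IsInvertible L := InvX.isInvertible_tensorMod hAd hM
  have hLB : ∀ B : X.Modules, PicF.IsInvertible B → SurfInt.pair k L B =
      d * SurfInt.pair k A B - ∑ i, s i * SurfInt.pair k (ClSub.idealMod (C i)) B := fun B hB => by
    rw [SurfInt.pair_tensor_left k h2 hAd hM hB, SurfInt.pair_tensorPow_left k h2 hA.1 hB, hMp B hB, sub_eq_add_neg,
      ← Finset.sum_neg_distrib]
    congr 1
    refine Finset.sum_congr rfl fun i _ => ?_
    obtain ⟨e⟩ := he i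
    rw [SurfInt.pair_inverse_left k h2 (hI i) (hJ i) hB e, ht i]
    ring
  have hLC : ∀ j, SurfInt.pair k L (ClSub.idealMod (C j)) = 0 := fun j => by
    rw [hLB _ (hI j), hs j, SurfInt.pair_comm k A]
    simp only [b]; ring
  have hdeg : ∀ (D : X.IdealSheafData) (hD : BlowUp.IsEffCartierIdeal D), SurfInt.curveDeg k D L =
      - SurfInt.pair k L (ClSub.idealMod D) := fun D hD => by
    rw [SurfInt.pair_comm, SurfInt.pair_ideal_left k D hL, neg_neg]
  have hiff : ∀ D : X.IdealSheafData, IsIntegral D.subscheme → topologicalKrullDim (D.support : Set X) = 1 →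
      (∀ i, D ≠ C i) → 0 < SurfInt.curveDeg k D L := fun D hDi hDd hne => by
    haveI := hDi
    have hDc := isEffCartier_of_curve k hdim D hDd
    have hDI := SurfInt.isInvertible_idealMod hDc
    rw [hdeg D hDc, hLB _ hDI, SurfInt.pair_comm k A, SurfInt.pair_ideal_left k D hA.1]
    have h1 : 0 < SurfInt.curveDeg k D A := SurfInt.curveDeg_pos_of_ample k hA hDd
    have h3 : 0 ≤ ∑ i, s i * SurfInt.pair k (ClSub.idealMod (C i)) (ClSub.idealMod D) :=
      Finset.sum_nonneg fun i _ => mul_nonneg (hs0 i) (by
        haveI := hCi i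
        rw [SurfInt.pair_ideal_left k _ hDI, neg_nonneg]
        exact SurfInt.curveDeg_idealMod_nonpos k (isEffCartier_of_curve k hdim (C i) (hCd i)) (hCd i) hDc
          fun hsub => hne i (eq_of_support_subset (k := k) (hCd i) hDd hsub).symm)
    have hd' : (0 : ℤ) < d := by exact_mod_cast hd
    nlinarith
  refine ⟨L, hL, fun D hDi hDd => ?_, ?_, fun D hDi hDd => ⟨fun h0 => ?_, ?_⟩⟩
  · by_cases h : ∃ i, D = C i
    · obtain ⟨i, rfl⟩ := h
      haveI := hDi
      rw [hdeg _ (isEffCartier_of_curve k hdim _ hDd), hLC, neg_zero]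
    · push Not at h
      exact (hiff D hDi hDd h).le
  · have hLL : SurfInt.pair k L L = d * SurfInt.pair k L A := by
      rw [hLB L hL, SurfInt.pair_comm k A L, Finset.sum_eq_zero fun i _ => ?_, sub_zero]
      rw [SurfInt.pair_comm, hLC, mul_zero]
    have hLA : 0 < SurfInt.pair k L A := by
      rw [hLB A hA.1]
      have := SurfInt.pair_self_pos_of_ample k hdim hA
      have h4 : ∑ i, s i * SurfInt.pair k (ClSub.idealMod (C i)) A ≤ 0 := Finset.sum_nonpos fun i _ =>
        mul_nonpos_of_nonneg_of_nonpos (hs0 i) (pair_curve_ample_neg k hdim C hCd hA i).le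
      have hd' : (0 : ℤ) < d := by exact_mod_cast hd
      nlinarith
    rw [hLL]; positivity
  · by_contra hne
    push Not at hne
    exact (hiff D hDi hDd hne).ne' h0
  · rintro ⟨i, rfl⟩
    haveI := hDi
    rw [hdeg _ (isEffCartier_of_curve k hdim _ hDd), hLC, neg_zero]

end Groth.Agent.NumSurf32
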