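import Groth.Agent.NumSurf32.Nakai
import Mathlib.LinearAlgebra.Basis.VectorSpace

/-!
# Ampleness of real divisors only depends on the numerical class
-/

set_option autoImplicit false
set_option linter.style.haveILetI false
set_option linter.unusedSectionVars false
set_option backward.isDefEq.respectTransparency false

universe u

open CategoryTheory CategoryTheory.Limits AlgebraicGeometry TopologicalSpace Opposite

noncomputable section

namespace Groth.Agent.NumSurf32

open Groth.Agent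

variable {X : Scheme.{u}} {k : Type u} [Field k] [X.Over (Spec (CommRingCat.of k))] [PicGrp.Law X]

/-- The integral divisors whose class is the class of an ample module. -/
def ampleDivs (X : Scheme.{u}) [PicGrp.Law X] : Set (NumR.CDivR X) :=
  {D | ∃ (E : NumR.CDiv X) (L : X.Modules) (hL : PicF.IsInvertible L), CohB1.IsAmple L ∧
    Additive.ofMul (PicGrp.cls L hL) = NumR.divCl X E ∧ D = NumR.CDiv.toR X E}

theorem isAmpleRDiv_iff_mem_hull {D : NumR.CDivR X} :
    NumR.IsAmpleRDiv X D ↔ D ∈ ConvexCone.hull ℝ (ampleDivs X) := by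
  constructor
  · rintro ⟨n, E, t, hn, ht, hE, rfl⟩
    induction n with
    | zero => omega
    | succ n ih =>
      have hm : ∀ i, t i • NumR.CDiv.toR X (E i) ∈ ConvexCone.hull ℝ (ampleDivs X) := fun i => by
        obtain ⟨L, hL, hLa, hLc⟩ := hE i
        exact (ConvexCone.hull ℝ (ampleDivs X)).smul_mem (ht i)
          (ConvexCone.subset_hull ⟨E i, L, hL, hLa, hLc, rfl⟩)
      rcases Nat.eq_zero_or_pos n with rfl | hn'
      · simpa [Fin.sum_univ_one] using hm 0
      · rw [Fin.sum_univ_succ]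
        exact (ConvexCone.hull ℝ (ampleDivs X)).add_mem (hm 0)
          (ih (E ∘ Fin.succ) (t ∘ Fin.succ) hn' (fun i => ht _) fun i => hE _)
  · intro hD
    refine (ConvexCone.hull_min (R := ℝ) (C :=
      { carrier := {D | NumR.IsAmpleRDiv X D}
        smul_mem' := ?_
        add_mem' := ?_ }) ?_) hD
    · rintro c hc D ⟨n, E, t, hn, ht, hE, rfl⟩
      exact ⟨n, E, fun i => c * t i, hn, fun i => mul_pos hc (ht i), hE, by simp [Finset.smul_sum, smul_smul]⟩
    · rintro D ⟨n, E, t, hn, ht, hE, rfl⟩ D' ⟨n', E', t', hn', ht', hE', rfl⟩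
      refine ⟨n + n', Fin.append E E', Fin.append t t', by omega, fun i => ?_, fun i => ?_, ?_⟩
      · refine Fin.addCases (fun j => ?_) (fun j => ?_) i
        · rw [Fin.append_left]; exact ht j
        · rw [Fin.append_right]; exact ht' j
      · refine Fin.addCases (fun j => ?_) (fun j => ?_) i
        · rw [Fin.append_left]; exact hE j
        · rw [Fin.append_right]; exact hE' j
      · simp [Fin.sum_univ_add]
    · rintro _ ⟨E, L, hL, hLa, hLc, rfl⟩
      exact ⟨1, fun _ => E, fun _ => 1, one_pos, fun _ => one_pos, fun _ => ⟨L, hL, hLa, hLc⟩, by simp⟩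

theorem exists_cls_eq_divCl (E : NumR.CDiv X) :
    ∃ (M : X.Modules) (hM : PicF.IsInvertible M), Additive.ofMul (PicGrp.cls M hM) = NumR.divCl X E := by
  obtain ⟨M, hM, h⟩ := PicGrp.exists_eq_cls (Additive.toMul (NumR.divCl X E))
  exact ⟨M, hM, by rw [← h]; rfl⟩

theorem divClR_eq_clR {M : X.Modules} (hM : PicF.IsInvertible M) {E : NumR.CDiv X}
    (h : Additive.ofMul (PicGrp.cls M hM) = NumR.divCl X E) :
    NumR.divClR k X (NumR.CDiv.toR X E) = NumR.clR k X M hM := by
  rw [NumR.divClR_toR, ← h]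
  rfl

/-- An integral divisor numerically trivial against integral divisors. -/
def IsNumTrivialZDiv (B : NumR.N1R k X →ₗ[ℝ] NumR.N1R k X →ₗ[ℝ] ℝ) (N : NumR.CDiv X) : Prop :=
  ∀ E : NumR.CDiv X, B (NumR.divClR k X (NumR.CDiv.toR X N)) (NumR.divClR k X (NumR.CDiv.toR X E)) = 0

section Surface

variable [IsProper (X ↘ Spec (CommRingCat.of k))] [IsIntegral X] [Smooth (X ↘ Spec (CommRingCat.of k))]
  (hdim : topologicalKrullDim X = 2)
  {B : NumR.N1R k X →ₗ[ℝ] NumR.N1R k X →ₗ[ℝ] ℝ} (hB : NumR.IsIntForm₂ k X B)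

include hdim hB in
theorem exists_int_pair (E F : NumR.CDiv X) :
    ∃ n : ℤ, B (NumR.divClR k X (NumR.CDiv.toR X E)) (NumR.divClR k X (NumR.CDiv.toR X F)) = n := by
  obtain ⟨L, hL, hLE⟩ := exists_cls_eq_divCl E
  obtain ⟨M, hM, hMF⟩ := exists_cls_eq_divCl F
  exact ⟨_, by rw [divClR_eq_clR hL hLE, divClR_eq_clR hM hMF, apply_clR hdim hB hL hM]⟩

include hdim hB in
theorem ample_add_numTrivial {E N : NumR.CDiv X} (hE : NumR.CDiv.toR X E ∈ ampleDivs X)
    (hinj : ∀ {E' : NumR.CDiv X}, NumR.CDiv.toR X E' = NumR.CDiv.toR X E → E' = E)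
    (hN : IsNumTrivialZDiv B N) : NumR.CDiv.toR X (E + N) ∈ ampleDivs X := by
  haveI := CurveCohLib.isNoetherian_of_proper (k := k) (X := X)
  obtain ⟨E', L, hL, hLa, hLE, hEE⟩ := hE
  obtain rfl := hinj hEE.symm
  obtain ⟨M, hM, hMN⟩ := exists_cls_eq_divCl N
  obtain ⟨M', hM', hM'E⟩ := exists_cls_eq_divCl (E' + N)
  have hsum : NumR.clR k X M' hM' = NumR.clR k X L hL + NumR.clR k X M hM := by
    rw [← divClR_eq_clR hL hLE, ← divClR_eq_clR hM hMN, ← divClR_eq_clR hM' hM'E, map_add, map_add]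
  have hLM : B (NumR.clR k X M hM) (NumR.clR k X L hL) = 0 := by
    rw [← divClR_eq_clR hL hLE, ← divClR_eq_clR hM hMN]; exact hN E'
  have hMM : B (NumR.clR k X M hM) (NumR.clR k X M hM) = 0 := by
    rw [← divClR_eq_clR hM hMN]; exact hN N
  have hLM' : B (NumR.clR k X L hL) (NumR.clR k X M hM) = 0 := by
    rw [apply_clR hdim hB hL hM, SurfInt.pair_comm, ← apply_clR hdim hB hM hL, hLM]
  refine ⟨_, M', hM', nakai k hdim hM' ?_ fun C hCi hCd hC => ?_, hM'E, rfl⟩
  · have h : (SurfInt.pair k M' M' : ℝ) = SurfInt.pair k L L := by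
      rw [← apply_clR hdim hB hM' hM', ← apply_clR hdim hB hL hL, hsum]
      simp only [map_add, LinearMap.add_apply, hLM, hMM, hLM', add_zero]
    rw [Int.cast_inj.1 h]
    exact SurfInt.pair_self_pos_of_ample k hdim hLa
  · let c : NumR.Curve X := ⟨C, hCi, hCd, hC⟩
    have hc : NumR.divClR k X (NumR.CDiv.toR X (Finsupp.single c 1)) = - NumR.clR k X _ hC := by
      simp [NumR.CDiv.toR, NumR.divClR, NumR.curveCl, c]
    have hMC : B (NumR.clR k X M hM) (NumR.clR k X _ hC) = 0 := by
      have h := hN (Finsupp.single c 1)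
      rw [hc, divClR_eq_clR hM hMN, map_neg, neg_eq_zero] at h
      exact h
    have h : (SurfInt.pair k M' (ClSub.idealMod C) : ℝ) = SurfInt.pair k L (ClSub.idealMod C) := by
      rw [← apply_clR hdim hB hM' hC, ← apply_clR hdim hB hL hC, hsum]
      simp only [map_add, LinearMap.add_apply, hMC, add_zero]
    rw [SurfInt.pair_comm, Int.cast_inj.1 h, SurfInt.pair_comm, SurfInt.pair_ideal_left k _ hL]
    have := (curveDeg_ample k hLa C hCd.le).2 hCd
    omega

theorem toR_injective : Function.Injective (NumR.CDiv.toR X) := fun _ _ h =>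
  Finsupp.mapRange_injective _ Int.cast_zero Int.cast_injective h

include hdim hB in
theorem hull_add_smul {N : NumR.CDiv X} (hN : IsNumTrivialZDiv B N) {D : NumR.CDivR X}
    (hD : D ∈ ConvexCone.hull ℝ (ampleDivs X)) (r : ℝ) :
    D + r • NumR.CDiv.toR X N ∈ ConvexCone.hull ℝ (ampleDivs X) := by
  set K := ConvexCone.hull ℝ (ampleDivs X)
  refine (ConvexCone.hull_min (R := ℝ) (C :=
    { carrier := {D | D ∈ K ∧ ∀ r : ℝ, D + r • NumR.CDiv.toR X N ∈ K}
      smul_mem' := fun c hc D ⟨hD1, hD2⟩ => ⟨K.smul_mem hc hD1, fun r => by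
        have := K.smul_mem hc (hD2 (r / c))
        rwa [smul_add, smul_smul, mul_div_cancel₀ r hc.ne'] at this⟩
      add_mem' := fun D ⟨hD1, hD2⟩ D' ⟨hD'1, hD'2⟩ => ⟨K.add_mem hD1 hD'1, fun r => by
        have := K.add_mem (hD2 r) hD'1
        rwa [add_right_comm] at this⟩ }) ?_ hD).2 r
  intro D hD0
  obtain ⟨E, L, hL, hLa, hLE, hDE⟩ := hD0
  subst hDE
  have hE : NumR.CDiv.toR X E ∈ ampleDivs X := ⟨E, L, hL, hLa, hLE, rfl⟩
  refine ⟨ConvexCone.subset_hull hE, fun r => ?_⟩
  obtain ⟨m, hm⟩ := exists_nat_gt |r|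
  have hm0 : (0 : ℝ) < m := lt_of_le_of_lt (abs_nonneg r) hm
  have hq : |r / m| < 1 := by rw [abs_div, abs_of_pos hm0, div_lt_one hm0]; exact hm
  obtain ⟨hl, hu⟩ := abs_lt.1 hq
  have hsc : ∀ j : ℤ, IsNumTrivialZDiv B (j • N) := fun j E' => by
    rw [map_zsmul, map_zsmul, map_zsmul, LinearMap.smul_apply, hN E', smul_zero]
  have h1 : NumR.CDiv.toR X (E + (m : ℤ) • N) ∈ K :=
    ConvexCone.subset_hull (ample_add_numTrivial hdim hB hE (fun h => toR_injective h) (hsc _))
  have h2 : NumR.CDiv.toR X (E + (-(m : ℤ)) • N) ∈ K :=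
    ConvexCone.subset_hull (ample_add_numTrivial hdim hB hE (fun h => toR_injective h) (hsc _))
  have h := K.add_mem (K.smul_mem (show (0 : ℝ) < (1 + r / m) / 2 by linarith) h1)
    (K.smul_mem (show (0 : ℝ) < (1 - r / m) / 2 by linarith) h2)
  rw [map_add, map_add, map_zsmul, map_zsmul, ← Int.cast_smul_eq_zsmul ℝ, ← Int.cast_smul_eq_zsmul ℝ] at h
  convert h using 1
  push_cast
  rw [smul_add, smul_add, smul_smul, smul_smul, add_add_add_comm, ← add_smul, ← add_smul]
  congr 1
  · rw [show (1 + r / m) / 2 + (1 - r / m) / 2 = (1 : ℝ) by ring, one_smul]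
  · congr 1
    field_simp
    ring

include hdim hB in
/-- A numerically trivial real divisor is a real combination of numerically trivial integral ones. -/
theorem mem_span_numTrivial {D : NumR.CDivR X} (hD : NumR.IsNumTrivialRDiv k X B D) :
    D ∈ Submodule.span ℝ (NumR.CDiv.toR X '' {N | IsNumTrivialZDiv B N}) := by
  classical
  let b := Module.Basis.ofVectorSpace ℚ ℝ
  let l := D.support.biUnion fun C => (b.repr (D C)).support
  let q : _ → NumR.Curve X → ℚ := fun i C => b.repr (D C) i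
  have hsplit : D = ∑ i ∈ l, b i • ∑ C ∈ D.support, Finsupp.single C (q i C : ℝ) := by
    conv_lhs => rw [← Finsupp.sum_single D, Finsupp.sum]
    simp only [Finset.smul_sum, Finsupp.smul_single, smul_eq_mul]
    rw [Finset.sum_comm]
    refine Finset.sum_congr rfl fun C hC => ?_
    rw [← Finsupp.single_finsetSum]
    congr 1
    conv_lhs => rw [← b.linearCombination_repr (D C), Finsupp.linearCombination_apply, Finsupp.sum]
    refine (Finset.sum_subset (s₂ := l) (fun i hi => Finset.mem_biUnion.2 ⟨C, hC, hi⟩) fun i _ hi => ?_).trans ?_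
    rotate_left
    refine Finset.sum_congr rfl fun i _ => ?_
    rotate_left
    · rw [Finsupp.notMem_support_iff.1 hi, zero_smul]
    · simp only [q, Rat.smul_def]; ring
  rw [hsplit]
  refine Submodule.sum_mem _ fun i _ => Submodule.smul_mem _ _ ?_
  obtain ⟨d, hd, a, ha⟩ : ∃ d : ℕ, 0 < d ∧ ∃ a : NumR.Curve X → ℤ,
      ∀ C ∈ D.support, (a C : ℚ) = d * q i C := by
    refine ⟨∏ C ∈ D.support, (q i C).den, Finset.prod_pos fun C _ => (q i C).den_pos,
      fun C => (q i C).num * ((∏ C ∈ D.support, (q i C).den) / (q i C).den : ℕ), fun C hC => ?_⟩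
    obtain ⟨e, he⟩ := Finset.dvd_prod_of_mem (fun C => (q i C).den) hC
    dsimp only at he ⊢
    rw [he, Nat.mul_div_cancel_left _ (q i C).den_pos]
    push_cast
    rw [← (q i C).mul_den_eq_num]
    ring
  let N : NumR.CDiv X := ∑ C ∈ D.support, Finsupp.single C (a C)
  have hN : NumR.CDiv.toR X N = (d : ℝ) • ∑ C ∈ D.support, Finsupp.single C (q i C : ℝ) := by
    simp only [N, map_sum, Finset.smul_sum, Finsupp.smul_single, smul_eq_mul]
    refine Finset.sum_congr rfl fun C hC => ?_
    have h := congrArg (fun x : ℚ => (x : ℝ)) (ha C hC)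
    simp only [Rat.cast_intCast, Rat.cast_mul, Rat.cast_natCast] at h
    simp [NumR.CDiv.toR, h]
  have hNt : IsNumTrivialZDiv B N := fun E => by
    have h0 := hD E
    set e := NumR.divClR k X (NumR.CDiv.toR X E)
    have hint : ∀ C : NumR.Curve X, ∃ n : ℤ, B (NumR.divClR k X (Finsupp.single C 1)) e = n := fun C => by
      obtain ⟨n, hn⟩ := exists_int_pair hdim hB (Finsupp.single C 1) E
      rw [show NumR.CDiv.toR X (Finsupp.single C 1) = Finsupp.single C (1 : ℝ) by simp [NumR.CDiv.toR]] at hn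
      exact ⟨n, hn⟩
    choose n hn using hint
    have hval : ∀ f : NumR.Curve X → ℝ,
        B (NumR.divClR k X (∑ C ∈ D.support, Finsupp.single C (f C))) e = ∑ C ∈ D.support, f C * n C := fun f => by
      simp only [map_sum, LinearMap.sum_apply]
      refine Finset.sum_congr rfl fun C _ => ?_
      rw [← Finsupp.smul_single_one, map_smul, map_smul, LinearMap.smul_apply, hn, smul_eq_mul]
    rw [show D = ∑ C ∈ D.support, Finsupp.single C (D C) from (Finsupp.sum_single D).symm, hval] at h0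
    have h1 : ∑ C ∈ D.support, (n C : ℚ) * q i C = 0 := by
      have h2 := congrArg (fun x : ℝ => b.repr x i) h0
      simp only [map_sum, map_zero, Finsupp.finsetSum_apply, Finsupp.zero_apply] at h2
      refine (Finset.sum_congr rfl fun C _ => ?_).trans h2
      rw [mul_comm (D C) (n C : ℝ), show ((n C : ℝ) * D C) = ((n C : ℚ) • D C : ℝ) by simp [Rat.smul_def],
        map_smul, Finsupp.smul_apply, smul_eq_mul]
    rw [hN, map_smul, map_smul, LinearMap.smul_apply, hval, smul_eq_mul]
    have h3 := congrArg (fun x : ℚ => (x : ℝ)) h1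
    simp only [Rat.cast_sum, Rat.cast_mul, Rat.cast_intCast, Rat.cast_zero] at h3
    rw [show ∑ C ∈ D.support, (q i C : ℝ) * n C = 0 by simpa [mul_comm] using h3, mul_zero]
  have : (∑ C ∈ D.support, Finsupp.single C (q i C : ℝ)) = ((d : ℝ)⁻¹) • NumR.CDiv.toR X N := by
    rw [hN, smul_smul, inv_mul_cancel₀ (by positivity), one_smul]
  rw [this]
  exact Submodule.smul_mem _ _ (Submodule.subset_span ⟨N, hNt, rfl⟩)

include hdim hB in
theorem isAmpleRDiv_of_numTrivial_sub {D D' : NumR.CDivR X} (hD : NumR.IsAmpleRDiv X D)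
    (h : NumR.IsNumTrivialRDiv k X B (D' - D)) : NumR.IsAmpleRDiv X D' := by
  rw [isAmpleRDiv_iff_mem_hull] at hD ⊢
  suffices key : ∀ v ∈ Submodule.span ℝ (NumR.CDiv.toR X '' {N | IsNumTrivialZDiv B N}),
      ∀ r : ℝ, ∀ w ∈ ConvexCone.hull ℝ (ampleDivs X), w + r • v ∈ ConvexCone.hull ℝ (ampleDivs X) by
    have h2 := key _ (mem_span_numTrivial hdim hB h) 1 D hD
    rwa [one_smul, add_sub_cancel] at h2
  intro v hv
  induction hv using Submodule.span_induction with
  | mem v hv =>
    obtain ⟨N, hN, rfl⟩ := hv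
    exact fun r w hw => hull_add_smul hdim hB hN hw r
  | zero => intro r w hw; rwa [smul_zero, add_zero]
  | add a c _ _ ha hc =>
    intro r w hw
    rw [smul_add, ← add_assoc]
    exact hc r _ (ha r w hw)
  | smul t a _ ha =>
    intro r w hw
    rw [smul_smul]
    exact ha _ w hw

end Surface

end Groth.Agent.NumSurf32
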