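import Groth.Agent.NumSurf32.Cycles
import Groth.Agent.GrpSchLib.SmoothRegular

/-!
# Rational configurations of curves on a surface
-/

set_option autoImplicit false
set_option linter.style.haveILetI false
set_option linter.unusedSectionVars false
set_option backward.isDefEq.respectTransparency false

universe u

open CategoryTheory CategoryTheory.Limits AlgebraicGeometry TopologicalSpace Opposite

noncomputable section

namespace Groth.Agent.NumSurf32

open Groth.Agent

variable {X : Scheme.{u}} (k : Type u) [Field k] [X.Over (Spec (CommRingCat.of k))]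
  [IsProper (X ↘ Spec (CommRingCat.of k))] [IsIntegral X] [Smooth (X ↘ Spec (CommRingCat.of k))]
  (hdim : topologicalKrullDim X = 2)

include k hdim

/-- Smooth proper surfaces are projective. -/
theorem exists_ample : ∃ A : X.Modules, CohB1.IsAmple A :=
  SurfInt.exists_isAmple k hdim
    (GrpSchLib.isRegularLocalRing_stalk_of_smooth (X ↘ Spec (CommRingCat.of k)))

theorem multiset_ne_zero {m : Multiset X.IdealSheafData} (h : m.prod ≠ ⊤) : m ≠ 0 := fun h0 => by
  rw [h0, Multiset.prod_zero] at h
  exact h rfl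

/-- The curves of a divisor supported on a configuration are among the configuration. -/
theorem exists_multiset_of_support {r : ℕ} (C : Fin r → X.IdealSheafData)
    (hCi : ∀ i, IsIntegral (C i).subscheme) (hCd : ∀ i, topologicalKrullDim ((C i).support : Set X) = 1)
    {Z : X.IdealSheafData} (hZ : BlowUp.IsEffCartierIdeal Z)
    (hZs : (Z.support : Set X) ⊆ ⋃ i, ((C i).support : Set X)) :
    ∃ m : Multiset X.IdealSheafData, (∀ Γ ∈ m, IsCurve Γ) ∧ (∀ Γ ∈ m, ∃ i, Γ = C i) ∧ m.prod = Z := by
  obtain ⟨A, hA⟩ := exists_ample k hdim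
  obtain ⟨m, hm, rfl⟩ := exists_multiset k hdim hA hZ
  exact ⟨m, hm, fun Γ hΓ =>
    exists_eq_of_support_subset k C hCi hCd (hm Γ hΓ) ((le_prod_of_mem hΓ).trans hZs), rfl⟩

variable [IsAlgClosed k]

/-- The square of a nonzero sum of curves of a negative definite configuration is negative. -/
theorem pair_prod_self_neg {r : ℕ} (C : Fin r → X.IdealSheafData) (hC : Function.Injective C)
    (hneg : ∀ a : Fin r → ℤ, a ≠ 0 →
      ∑ i, ∑ j, a i * a j * SurfInt.pair k (ClSub.idealMod (C i)) (ClSub.idealMod (C j)) < 0)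
    (m : Multiset X.IdealSheafData) (hm : ∀ Γ ∈ m, IsCurve Γ) (hsub : ∀ Γ ∈ m, ∃ i, Γ = C i) (hne : m ≠ 0)
    (hCi : ∀ i, IsIntegral (C i).subscheme) (hCd : ∀ i, topologicalKrullDim ((C i).support : Set X) = 1) :
    SurfInt.pair k (ClSub.idealMod m.prod) (ClSub.idealMod m.prod) < 0 := by
  classical
  haveI := CurveCohLib.isNoetherian_of_proper (k := k) (X := X)
  have hI := isInvertible_curve k hdim C hCi hCd
  have hD := SurfInt.isInvertible_idealMod (isEffCartier_prod k hdim m hm)
  have h1 : ∀ i, SurfInt.pair k (ClSub.idealMod (C i)) (ClSub.idealMod m.prod) =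
      ∑ j, (m.count (C j) : ℤ) * SurfInt.pair k (ClSub.idealMod (C i)) (ClSub.idealMod (C j)) := fun i => by
    rw [SurfInt.pair_comm k, pair_prod_count k hdim C hC m hm hsub (hI i)]
    exact Finset.sum_congr rfl fun j _ => by rw [SurfInt.pair_comm k (ClSub.idealMod (C j))]
  rw [pair_prod_count k hdim C hC m hm hsub hD, Finset.sum_congr rfl fun i _ => by rw [h1 i, Finset.mul_sum]]
  have ha : (fun i => (m.count (C i) : ℤ)) ≠ 0 := fun h0 => by
    obtain ⟨Γ, hΓ⟩ := Multiset.exists_mem_of_ne_zero hne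
    obtain ⟨i, rfl⟩ := hsub Γ hΓ
    have : (m.count (C i) : ℤ) = 0 := congrFun h0 i
    exact Multiset.count_ne_zero.2 hΓ (by exact_mod_cast this)
  have h2 := hneg _ ha
  simp only [mul_assoc] at h2 ⊢
  exact h2

/-- A curve without `H¹` has `χ = 1`. -/
theorem euler_curve_eq_one {Γ : X.IdealSheafData} (hΓ : IsCurve Γ)
    (h : Subsingleton (Coh.HH X (ClSub.quotMod Γ) 1)) : Curv2.euler k X (ClSub.quotMod Γ) = 1 := by
  haveI := hΓ.1
  rw [euler_quotMod_eq k hdim (isEffCartier_of_curve k hdim Γ hΓ.2), finrank_h0_curve k hΓ,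
    Module.finrank_zero_of_subsingleton (M := Coh.HH X (ClSub.quotMod Γ) 1)]
  rfl

/-- A nonempty divisor without `H¹` has positive Euler characteristic. -/
theorem one_le_euler_of_subsingleton {D : X.IdealSheafData} (hD : BlowUp.IsEffCartierIdeal D) (hne : D ≠ ⊤)
    (h : Subsingleton (Coh.HH X (ClSub.quotMod D) 1)) : 1 ≤ Curv2.euler k X (ClSub.quotMod D) := by
  obtain ⟨A, hA⟩ := exists_ample k hdim
  have h0 := one_le_finrank_h0_quotMod k hdim hA hD hne
  rw [euler_quotMod_eq k hdim hD, Module.finrank_zero_of_subsingleton (M := Coh.HH X (ClSub.quotMod D) 1)]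
  omega

end Groth.Agent.NumSurf32
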