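import Groth.Agent.NumSurf32.Cones
import Groth.Agent.NumSurf32.Gram

/-!
# Classes orthogonal to a negative definite configuration
-/

set_option autoImplicit false
set_option linter.style.haveILetI false
set_option linter.unusedSectionVars false
set_option backward.isDefEq.respectTransparency false

universe u

open CategoryTheory CategoryTheory.Limits AlgebraicGeometry TopologicalSpace Opposite
open Groth.Agent.NumCone (Hyp cone)

noncomputable section

namespace Groth.Agent.NumSurf32

open Groth.Agent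

variable {X : Scheme.{u}} {k : Type u} [Field k] [X.Over (Spec (CommRingCat.of k))]
  [IsProper (X ↘ Spec (CommRingCat.of k))] [IsIntegral X]
  [Smooth (X ↘ Spec (CommRingCat.of k))] [PicGrp.Law X] [Module.Finite ℝ (NumR.N1R k X)]
  (hdim : topologicalKrullDim X = 2)
  {B : NumR.N1R k X →ₗ[ℝ] NumR.N1R k X →ₗ[ℝ] ℝ} (hB : NumR.IsIntForm₂ k X B)
  {H : X.Modules} (hH : CohB1.IsAmple H)
  {r : ℕ} {C : Fin r → X.IdealSheafData} (hC : Function.Injective C)
  (hCi : ∀ i, IsIntegral (C i).subscheme) (hCd : ∀ i, topologicalKrullDim ((C i).support : Set X) = 1)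
  (hCinv : ∀ i, PicF.IsInvertible (ClSub.idealMod (C i)))

include hdim hB in
theorem apply_curveCl (i j : Fin r) :
    B (NumR.curveCl k X (C i) (hCinv i)) (NumR.curveCl k X (C j) (hCinv j)) =
      (SurfInt.pair k (ClSub.idealMod (C i)) (ClSub.idealMod (C j)) : ℝ) := by
  simp [NumR.curveCl, apply_clR hdim hB (hCinv i) (hCinv j)]

include hdim hB hH hC hCi hCd in
/-- A class of positive square orthogonal to the curves makes them negative definite. -/
theorem negDef_of_orthogonal {x : NumR.N1R k X} (hx : 0 < B x x)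
    (hxC : ∀ i, B x (NumR.curveCl k X (C i) (hCinv i)) = 0) :
    ∀ a : Fin r → ℤ, a ≠ 0 →
      ∑ i, ∑ j, a i * a j * SurfInt.pair k (ClSub.idealMod (C i)) (ClSub.idealMod (C j)) < 0 := by
  refine gram_negDef k hdim C hCi hCd hH hC fun a ⟨M, hM, hne⟩ => ?_
  set v := ∑ i, (a i : ℝ) • NumR.curveCl k X (C i) (hCinv i) with hv
  have hvx : B x v = 0 := by simp [hv, hxC]
  have hv0 : v ≠ 0 := fun h0 => hne (by
    have h1 : B v (NumR.clR k X M hM) = 0 := by rw [h0]; simp
    simp only [hv, map_sum, map_smul, LinearMap.sum_apply, LinearMap.smul_apply, smul_eq_mul, NumR.curveCl, map_neg,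
      LinearMap.neg_apply, apply_clR hdim hB (hCinv _) hM, mul_neg, Finset.sum_neg_distrib, neg_eq_zero] at h1
    exact_mod_cast h1)
  have h2 : B v v < 0 := lt_of_not_ge fun h => hv0 ((hyp hdim hB hH).eq_zero_of_orthogonal hx h hvx)
  rw [hv, NumCone.apply_sum_sum] at h2
  simp only [apply_curveCl hdim hB hCinv] at h2
  exact_mod_cast h2

include hdim hB hH hC hCi hCd in
/-- A negative definite configuration has a nef class of positive square exactly orthogonal to it. -/
theorem exists_nef_orthogonal
    (hneg : ∀ a : Fin r → ℤ, a ≠ 0 →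
      ∑ i, ∑ j, a i * a j * SurfInt.pair k (ClSub.idealMod (C i)) (ClSub.idealMod (C j)) < 0) :
    ∃ x : NumR.N1R k X, x ∈ NumR.nefCone₂ k X B ∧ 0 < B x x ∧
      ∀ i, B x (NumR.curveCl k X (C i) (hCinv i)) = 0 := by
  classical
  haveI := CurveCohLib.isNoetherian_of_proper (k := k) (X := X)
  have hy := hyp hdim hB hH
  let c : Fin r → NumR.N1R k X := fun i => NumR.curveCl k X (C i) (hCinv i)
  let M : Fin r → Fin r → ℝ := fun i j => B (c i) (c j)
  have hMe : ∀ i j, M i j = (SurfInt.pair k (ClSub.idealMod (C i)) (ClSub.idealMod (C j)) : ℝ) :=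
    apply_curveCl hdim hB hCinv
  have hoff : ∀ i j, i ≠ j → 0 ≤ M i j := fun i j hij => by
    rw [hMe]; exact_mod_cast pair_curve_nonneg k hdim C hCi hCd hC i j hij
  have hnegR : ∀ t : Fin r → ℝ, t ≠ 0 → ∑ i, ∑ j, t i * t j * M i j < 0 := fun t ht => by
    simp only [hMe]
    exact NumCone.negDef_real _ (fun i j => SurfInt.pair_comm k _ _) hneg ht
  let φ : (Fin r → ℝ) →ₗ[ℝ] (Fin r → ℝ) :=
    { toFun := fun t j => ∑ i, t i * M i j
      map_add' := fun t t' => by funext j; simp [add_mul, Finset.sum_add_distrib]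
      map_smul' := fun a t => by funext j; simp [Finset.mul_sum, mul_assoc] }
  have hφi : Function.Injective φ := by
    rw [← LinearMap.ker_eq_bot, LinearMap.ker_eq_bot']
    intro t ht
    by_contra hne
    refine (hnegR t hne).ne ?_
    rw [Finset.sum_comm]
    refine Finset.sum_eq_zero fun j _ => ?_
    have : φ t j = 0 := by rw [ht]; rfl
    change ∑ i, t i * M i j = 0 at this
    rw [show (0 : ℝ) = t j * ∑ i, t i * M i j by rw [this, mul_zero], Finset.mul_sum]
    exact Finset.sum_congr rfl fun i _ => by ring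
  obtain ⟨t, ht⟩ := LinearMap.injective_iff_surjective.1 hφi fun j => - B (NumR.clR k X H hH.1) (c j)
  have htj : ∀ j, ∑ i, t i * M i j = - B (NumR.clR k X H hH.1) (c j) := fun j => congrFun ht j
  have hpos : ∀ j, 0 < B (NumR.clR k X H hH.1) (c j) := fun j =>
    ampleCone_pos_curve hdim hB hH (clR_mem_ampleCone (k := k) hH) (C j) (hCd j) (hCinv j)
  have ht0 : ∀ i, 0 ≤ t i := NumCone.nonneg_of_negDef M hoff hnegR fun j => by rw [htj]; linarith [hpos j]
  set x := NumR.clR k X H hH.1 + ∑ i, t i • c i with hx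
  have hxc : ∀ j, B x (c j) = 0 := fun j => by
    simp only [hx, map_add, map_sum, map_smul, LinearMap.add_apply, LinearMap.sum_apply, LinearMap.smul_apply,
      smul_eq_mul]
    change B (NumR.clR k X H hH.1) (c j) + ∑ i, t i * M i j = 0
    rw [htj]; ring
  refine ⟨x, fun I hIi hId hI => ?_, ?_, hxc⟩
  · by_cases h : ∃ j, I = C j
    · obtain ⟨j, rfl⟩ := h
      exact le_of_eq (hxc j).symm
    · simp only [hx, map_add, map_sum, map_smul, LinearMap.add_apply, LinearMap.sum_apply, LinearMap.smul_apply,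
        smul_eq_mul]
      refine add_nonneg (ampleCone_pos_curve hdim hB hH (clR_mem_ampleCone (k := k) hH) I hId hI).le
        (Finset.sum_nonneg fun i _ => mul_nonneg (ht0 i) ?_)
      haveI := hIi
      haveI := hCi i
      have h1 := SurfInt.curveDeg_idealMod_nonpos k (isEffCartier_of_curve k hdim (C i) (hCd i)) (hCd i)
        (isEffCartier_of_curve k hdim I hId) fun hsub => h ⟨i, (eq_of_support_subset (k := k) (hCd i) hId hsub).symm⟩
      simp only [c, NumR.curveCl, map_neg, LinearMap.neg_apply, neg_neg, apply_clR hdim hB (hCinv i) hI,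
        SurfInt.pair_ideal_left k _ hI]
      push_cast
      rw [neg_nonneg]
      exact_mod_cast h1
  · have h1 : B x x = B x (NumR.clR k X H hH.1) + ∑ i, t i * B x (c i) := by
      conv_lhs => arg 2; rw [hx]
      simp [map_sum]
    rw [h1]
    simp only [hxc, mul_zero, Finset.sum_const_zero, add_zero]
    simp only [hx, map_add, map_sum, map_smul, LinearMap.add_apply, LinearMap.sum_apply, LinearMap.smul_apply,
      smul_eq_mul]
    refine add_pos_of_pos_of_nonneg hy.pos (Finset.sum_nonneg fun i _ => mul_nonneg (ht0 i) ?_)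
    rw [hy.symm]
    exact (hpos i).le

end Groth.Agent.NumSurf32
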